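import Cfsg.Agent.SpecSpFour.PSp
import Mathlib.GroupTheory.SpecificGroups.Cyclic
import Mathlib.RingTheory.RootsOfUnity.Basic
import Mathlib.FieldTheory.Finite.GaloisField

/-!
A solvable group with the spectrum of `PSp_4(3)`: a three-group of nilpotency class three over the field
of `81` elements, extended by fifth roots of unity and the field automorphisms.
-/

set_option autoImplicit false
set_option linter.style.haveILetI false

namespace CfsgLib.SpecSpFour

universe u

variable {K : Type u} [Field K] [CharP K 3]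

/-- The three-group. -/
@[ext] structure Pt (K : Type u) where
  /-- first coordinate of degree one -/
  a : K
  /-- second coordinate of degree one -/
  b : K
  /-- first coordinate of degree two -/
  c : K
  /-- second coordinate of degree two -/
  d : K
  /-- third coordinate of degree two -/
  e : K
  /-- fourth coordinate of degree two -/
  f : K
  /-- coordinate of degree three -/
  z : K

theorem add_cube (x y : K) : (x + y) ^ 3 = x ^ 3 + y ^ 3 := by
  haveI : Fact (Nat.Prime 3) := ⟨Nat.prime_three⟩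
  exact add_pow_char x y 3

theorem add_ninth (x y : K) : (x + y) ^ 9 = x ^ 9 + y ^ 9 := by
  rw [show (9 : ℕ) = 3 * 3 from rfl, pow_mul, pow_mul, pow_mul, add_cube, add_cube]

theorem three_eq_zero : (3 : K) = 0 := by exact_mod_cast CharP.cast_eq_zero K 3

namespace Pt

instance : Mul (Pt K) := ⟨fun x y =>
  ⟨x.a + y.a, x.b + y.b, x.c + y.c + x.a * y.a ^ 3, x.d + y.d + x.a ^ 9 * y.a ^ 3,
    x.e + y.e + x.a ^ 3 * y.b ^ 9, x.f + y.f - x.a ^ 3 * y.b,
    x.z + y.z + x.a * y.e + x.a ^ 9 * y.f + x.c * y.b ^ 9 - x.d * y.b⟩⟩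

instance : One (Pt K) := ⟨⟨0, 0, 0, 0, 0, 0, 0⟩⟩

instance : Inv (Pt K) := ⟨fun x =>
  ⟨-x.a, -x.b, x.a ^ 4 - x.c, x.a ^ 12 - x.d, x.a ^ 3 * x.b ^ 9 - x.e, -(x.a ^ 3 * x.b) - x.f,
    -(x.z + -x.a * x.e + (-x.a) ^ 9 * x.f + (x.a ^ 4 - x.c) * x.b ^ 9 - (x.a ^ 12 - x.d) * x.b)⟩⟩

omit [CharP K 3] in
theorem mul_def (x y : Pt K) : x * y =
    ⟨x.a + y.a, x.b + y.b, x.c + y.c + x.a * y.a ^ 3, x.d + y.d + x.a ^ 9 * y.a ^ 3,
    x.e + y.e + x.a ^ 3 * y.b ^ 9, x.f + y.f - x.a ^ 3 * y.b,
    x.z + y.z + x.a * y.e + x.a ^ 9 * y.f + x.c * y.b ^ 9 - x.d * y.b⟩ := rfl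

omit [CharP K 3] in
theorem one_def : (1 : Pt K) = ⟨0, 0, 0, 0, 0, 0, 0⟩ := rfl

instance : Group (Pt K) := Group.ofLeftAxioms
  (fun x y w => by
    simp only [mul_def, add_cube, add_ninth]
    ext <;> simp only <;> ring)
  (fun x => by simp [mul_def, one_def])
  (fun x => by
    simp only [mul_def, one_def, Inv.inv]
    ext <;> simp only <;> ring)

/-- The equivalence with seven copies of the field. -/
def equivProd : Pt K ≃ K × K × K × K × K × K × K where
  toFun x := (x.a, x.b, x.c, x.d, x.e, x.f, x.z)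
  invFun x := ⟨x.1, x.2.1, x.2.2.1, x.2.2.2.1, x.2.2.2.2.1, x.2.2.2.2.2.1, x.2.2.2.2.2.2⟩
  left_inv _ := rfl
  right_inv _ := rfl

instance [Finite K] : Finite (Pt K) := Finite.of_equiv _ equivProd.symm

theorem cube (x : Pt K) : x ^ 3 = ⟨0, 0, 0, 0, 0, 0, x.a ^ 4 * x.b ^ 9 - x.a ^ 12 * x.b⟩ := by
  have h3 := three_eq_zero (K := K)
  rw [pow_succ, pow_two]
  simp only [mul_def, add_cube, add_ninth]
  ext <;> simp only
  · linear_combination x.a * h3
  · linear_combination x.b * h3
  · linear_combination (x.c + x.a ^ 4) * h3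
  · linear_combination (x.d + x.a ^ 12) * h3
  · linear_combination (x.e + x.a ^ 3 * x.b ^ 9) * h3
  · linear_combination (x.f - x.a ^ 3 * x.b) * h3
  · linear_combination (x.z + x.a * x.e + x.a ^ 9 * x.f + x.c * x.b ^ 9 - x.d * x.b) * h3

theorem pow_nine (x : Pt K) : x ^ 9 = 1 := by
  rw [show (9 : ℕ) = 3 * 3 from rfl, pow_mul, cube (x ^ 3), cube x, one_def]
  simp

end Pt

/-- Scaling. -/
def scPt (u : Kˣ) : MulAut (Pt K) where
  toFun x := ⟨u * x.a, u * x.b, (u : K) ^ 4 * x.c, (u : K) ^ 12 * x.d, (u : K) ^ 12 * x.e, (u : K) ^ 4 * x.f,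
    (u : K) ^ 13 * x.z⟩
  invFun x := ⟨(u⁻¹ : Kˣ) * x.a, (u⁻¹ : Kˣ) * x.b, ((u⁻¹ : Kˣ) : K) ^ 4 * x.c, ((u⁻¹ : Kˣ) : K) ^ 12 * x.d,
    ((u⁻¹ : Kˣ) : K) ^ 12 * x.e, ((u⁻¹ : Kˣ) : K) ^ 4 * x.f, ((u⁻¹ : Kˣ) : K) ^ 13 * x.z⟩
  left_inv x := by ext <;> simp [← mul_assoc, ← mul_pow]
  right_inv x := by ext <;> simp [← mul_assoc, ← mul_pow]
  map_mul' x y := by
    simp only [Pt.mul_def]
    ext <;> simp only <;> ring

/-- A field automorphism. -/
def mapPt (φ : RingAut K) : MulAut (Pt K) where
  toFun x := ⟨φ x.a, φ x.b, φ x.c, φ x.d, φ x.e, φ x.f, φ x.z⟩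
  invFun x := ⟨φ.symm x.a, φ.symm x.b, φ.symm x.c, φ.symm x.d, φ.symm x.e, φ.symm x.f, φ.symm x.z⟩
  left_inv x := by ext <;> simp
  right_inv x := by ext <;> simp
  map_mul' x y := by ext <;> simp [Pt.mul_def, map_add, map_sub, map_mul, map_pow]

variable [Finite K]

variable (K) in
/-- The Frobenius as an automorphism of the field. -/
noncomputable def frobAut : RingAut K :=
  haveI : Fact (Nat.Prime 3) := ⟨Nat.prime_three⟩
  frobeniusEquiv K 3

theorem frobAut_pow (k : ℕ) (x : K) : (frobAut K ^ k) x = x ^ 3 ^ k := by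
  induction k with
  | zero => simp
  | succ k ih =>
    rw [pow_succ', RingAut.mul_apply, ih, pow_succ, pow_mul]
    haveI : Fact (Nat.Prime 3) := ⟨Nat.prime_three⟩
    exact frobeniusEquiv_apply K 3 _

variable (K) in
/-- The action of the field automorphisms on roots of unity. -/
noncomputable def rootAct : Subgroup.zpowers (frobAut K) →* MulAut (rootsOfUnity 5 K) where
  toFun φ := MulEquiv.restrictRootsOfUnity (φ : RingAut K).toMulEquiv 5
  map_one' := MulEquiv.ext fun u => Subtype.ext (Units.ext rfl)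
  map_mul' φ ψ := MulEquiv.ext fun u => Subtype.ext (Units.ext rfl)

variable (K) in
/-- The complement: fifth roots of unity and field automorphisms. -/
abbrev Compl5 : Type u := rootsOfUnity 5 K ⋊[rootAct K] Subgroup.zpowers (frobAut K)

variable (K) in
/-- The complement acting on the three-group. -/
noncomputable def complAct : Compl5 K →* MulAut (Pt K) where
  toFun h := scPt (h.left : Kˣ) * mapPt (h.right : RingAut K)
  map_one' := MulEquiv.ext fun x => by
    ext <;> simp [scPt, mapPt]
  map_mul' g h := MulEquiv.ext fun x => by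
    show scPt ((g * h).left : Kˣ) (mapPt ((g * h).right : RingAut K) x) =
      scPt (g.left : Kˣ) (mapPt (g.right : RingAut K) (scPt (h.left : Kˣ) (mapPt (h.right : RingAut K) x)))
    have e : ((rootAct K g.right h.left : Kˣ) : K) = (g.right : RingAut K) ((h.left : Kˣ) : K) := rfl
    ext <;> simp [scPt, mapPt, e, map_mul, map_pow, mul_pow, mul_assoc]

variable (K) in
/-- The solvable group. -/
abbrev SolvGrp : Type u := Pt K ⋊[complAct K] Compl5 K

theorem act_a (h : Compl5 K) (x : Pt K) :
    (complAct K h x).a = ((h.left : Kˣ) : K) * (h.right : RingAut K) x.a ∧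
    (complAct K h x).b = ((h.left : Kˣ) : K) * (h.right : RingAut K) x.b := ⟨rfl, rfl⟩

theorem root_eq_one {u : Kˣ} (h5 : u ^ 5 = 1) {j : ℕ} (hj : u ^ j = 1) (hg : Nat.gcd 5 j = 1) : u = 1 := by
  simpa [hg] using pow_gcd_eq_one.2 ⟨h5, hj⟩

theorem solv_isSolvable : Group.IsSolvable (SolvGrp K) := by
  haveI : Fact (Nat.Prime 3) := ⟨Nat.prime_three⟩
  have hp : IsPGroup 3 (Pt K) := fun x => ⟨2, Pt.pow_nine x⟩
  haveI : Group.IsNilpotent (Pt K) := hp.isNilpotent
  haveI : Group.IsSolvable (Subgroup.zpowers (frobAut K)) := Group.isSolvable_of_comm fun a b => mul_comm' a b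
  haveI : Group.IsSolvable (Compl5 K) :=
    solvable_of_ker_le_range (SemidirectProduct.inl : rootsOfUnity 5 K →* Compl5 K) SemidirectProduct.rightHom
      (le_of_eq SemidirectProduct.range_inl_eq_ker_rightHom.symm)
  exact solvable_of_ker_le_range (SemidirectProduct.inl : Pt K →* SolvGrp K) SemidirectProduct.rightHom
    (le_of_eq SemidirectProduct.range_inl_eq_ker_rightHom.symm)

/-- The spectrum of the solvable group. -/
theorem solv_range (hK : Nat.card K = 81) : Set.range (orderOf : SolvGrp K → ℕ) = spec 3 3 := by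
  classical
  haveI : Fact (Nat.Prime 3) := ⟨Nat.prime_three⟩
  haveI := Fintype.ofFinite K
  have h81 : ∀ x : K, x ^ 81 = x := fun x => by
    rw [← hK, Nat.card_eq_fintype_card, FiniteField.pow_card]
  have hnums : nums 3 3 = [5, 4, 6, 12, 9] := by norm_num [nums, dd, Nat.clog_of_two_le]
  haveI : Finite (RingAut K) := Finite.of_injective (fun φ => (φ : K → K)) DFunLike.coe_injective
  haveI : Finite (Compl5 K) := Finite.of_equiv _ SemidirectProduct.equivProd.symm
  haveI : Finite (SolvGrp K) := Finite.of_equiv _ SemidirectProduct.equivProd.symm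
  have hfrob4 : frobAut K ^ 4 = 1 := RingEquiv.ext fun x => by rw [frobAut_pow]; exact h81 x
  refine range_eq_spec (fun g => ?_) fun T hT => ?_
  · rw [hnums]
    obtain ⟨x, h⟩ := g
    obtain ⟨k, hk4, hk⟩ : ∃ k < 4, (h.right : RingAut K) = frobAut K ^ k := by
      obtain ⟨j, hj⟩ := (isOfFinOrder_of_finite (frobAut K)).mem_powers_iff_mem_zpowers.2 h.right.2
      exact ⟨j % 4, Nat.mod_lt _ (by norm_num), hj ▸ pow_eq_pow_mod j hfrob4⟩
    set u : Kˣ := (h.left : Kˣ) with hu
    have hu5 : u ^ 5 = 1 := (mem_rootsOfUnity 5 _).1 h.left.2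
    have hu5' : (u : K) ^ 5 = 1 := by rw [← Units.val_pow_eq_pow_val, hu5, Units.val_one]
    -- the equation satisfied by a power landing in the three-group
    have hcomm : ∀ m, h ^ m = 1 → ∃ n : Pt K, (⟨x, h⟩ : SolvGrp K) ^ m = SemidirectProduct.inl n ∧
        x * complAct K h n = n * x := fun m hm => by
      have hr : ((⟨x, h⟩ : SolvGrp K) ^ m).right = 1 := (map_pow SemidirectProduct.rightHom _ m).trans hm
      refine ⟨((⟨x, h⟩ : SolvGrp K) ^ m).left, SemidirectProduct.ext rfl hr, ?_⟩
      have e := (Commute.refl (⟨x, h⟩ : SolvGrp K)).pow_right m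
      have e' := congrArg SemidirectProduct.left e.eq
      rw [SemidirectProduct.mul_left, SemidirectProduct.mul_left, hr, map_one] at e'
      exact e'
    have hfin : ∀ m, h ^ m = 1 → h.right ≠ 1 → ((⟨x, h⟩ : SolvGrp K) ^ m) ^ 3 = 1 := fun m hm hne => by
      obtain ⟨n, hn, heq⟩ := hcomm m hm
      have ea : (u : K) * n.a ^ 3 ^ k = n.a := by
        have := congrArg Pt.a heq
        simp only [Pt.mul_def, (act_a h n).1, hk, frobAut_pow, ← hu] at this
        linear_combination this
      have eb : (u : K) * n.b ^ 3 ^ k = n.b := by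
        have := congrArg Pt.b heq
        simp only [Pt.mul_def, (act_a h n).2, hk, frobAut_pow, ← hu] at this
        linear_combination this
      obtain ⟨v, hv⟩ : ∃ v : Kˣ, ∀ y : K, (u : K) * y ^ 3 ^ k = y → (v : K) * y ^ 9 = y := by
        interval_cases k
        · exact absurd (Subtype.ext (by rw [hk, pow_zero]; rfl)) hne
        · refine ⟨u ^ 4, fun y e => ?_⟩
          rw [Units.val_pow_eq_pow_val]
          calc (u : K) ^ 4 * y ^ 9 = u * (u * y ^ 3 ^ 1) ^ 3 := by ring
            _ = y := by rw [e]; exact e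
        · exact ⟨u, fun y e => e⟩
        · refine ⟨u ^ 28, fun y e => ?_⟩
          rw [Units.val_pow_eq_pow_val]
          calc (u : K) ^ 28 * y ^ 9 = u * ((u * y ^ 3 ^ 3) ^ 27) := by
                rw [show y ^ 9 = (y ^ 81) ^ 9 by rw [h81]]; ring
            _ = y := by rw [e]; exact e
      have ha := hv _ ea
      have hb := hv _ eb
      rw [hn, ← map_pow, Pt.cube]
      have hz : n.a ^ 4 * n.b ^ 9 - n.a ^ 12 * n.b = 0 := by
        refine (mul_eq_zero.1 (show (v : K) * (n.a ^ 4 * n.b ^ 9 - n.a ^ 12 * n.b) = 0 by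
          linear_combination n.a ^ 4 * hb - n.a ^ 3 * n.b * ha)).resolve_left v.ne_zero
      rw [hz]
      exact map_one _
    have hsq : ∀ h' : Compl5 K, (h'.right : RingAut K) = frobAut K ^ 2 → h' ^ 2 = 1 := fun h' e2 => by
      refine SemidirectProduct.ext ?_ ?_
      · refine Subtype.ext (Units.ext ?_)
        rw [pow_two, SemidirectProduct.mul_left]
        show ((h'.left : Kˣ) : K) * (h'.right : RingAut K) ((h'.left : Kˣ) : K) = 1
        have h5 : ((h'.left : Kˣ) : K) ^ 5 = 1 := by
          rw [← Units.val_pow_eq_pow_val, (mem_rootsOfUnity 5 _).1 h'.left.2,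
            Units.val_one]
        rw [e2, frobAut_pow]
        linear_combination (((h'.left : Kˣ) : K) ^ 5 + 1) * h5
      · refine Subtype.ext ?_
        rw [pow_two]
        show (h'.right : RingAut K) * (h'.right : RingAut K) = 1
        rw [e2, ← pow_add, hfrob4]
    interval_cases k
    · -- no field automorphism
      have hr1 : h.right = 1 := Subtype.ext (by rw [hk, pow_zero]; rfl)
      by_cases hl : h.left = 1
      · refine ⟨9, by simp, ?_⟩
        have h1 : h = 1 := SemidirectProduct.ext hl hr1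
        subst h1
        rw [show (⟨x, 1⟩ : SolvGrp K) = SemidirectProduct.inl x from rfl, ← map_pow, Pt.pow_nine, map_one]
      · refine ⟨5, by simp, ?_⟩
        have h5 : h ^ 5 = 1 := by
          rw [show h = SemidirectProduct.inl h.left from SemidirectProduct.ext rfl hr1, ← map_pow,
            show h.left ^ 5 = 1 from Subtype.ext (by simpa using hu5), map_one]
        obtain ⟨n, hn, heq⟩ := hcomm 5 h5
        have hu1 : ∀ j, Nat.gcd 5 j = 1 → ∀ y : K, (u : K) ^ j * y = y → y = 0 := fun j hj y e => by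
          by_contra hy
          refine hl (Subtype.ext (root_eq_one hu5 (Units.ext ?_) hj))
          rw [Units.val_pow_eq_pow_val, Units.val_one]
          exact mul_right_cancel₀ hy (e.trans (one_mul y).symm)
        have hact : complAct K h n = ⟨u * n.a, u * n.b, (u : K) ^ 4 * n.c, (u : K) ^ 12 * n.d, (u : K) ^ 12 * n.e,
            (u : K) ^ 4 * n.f, (u : K) ^ 13 * n.z⟩ := by
          show scPt u (mapPt (h.right : RingAut K) n) = _
          rw [hr1]
          rfl
        rw [hact, Pt.mul_def, Pt.mul_def, Pt.ext_iff] at heq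
        obtain ⟨ea, eb, ec, ed, ee, ef, ez⟩ := heq
        have ha : n.a = 0 := hu1 1 rfl _ (by linear_combination ea)
        have hb : n.b = 0 := hu1 1 rfl _ (by linear_combination eb)
        simp [ha, hb] at ec ed ee ef ez
        have hc : n.c = 0 := hu1 4 rfl _ (by linear_combination ec)
        have hd : n.d = 0 := hu1 12 rfl _ (by linear_combination ed)
        have he : n.e = 0 := hu1 12 rfl _ (by linear_combination ee)
        have hf : n.f = 0 := hu1 4 rfl _ (by linear_combination ef)
        simp [hc, hd, he, hf] at ez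
        have hz : n.z = 0 := hu1 13 rfl _ (by linear_combination ez)
        rw [hn, show n = 1 from Pt.ext ha hb hc hd he hf hz, map_one]
    · refine ⟨12, by simp, ?_⟩
      rw [show 12 = 4 * 3 from rfl, pow_mul]
      refine hfin 4 ?_ fun e => ?_
      · rw [show 4 = 2 * 2 from rfl, pow_mul, hsq _ (by
          rw [pow_two]; show (h.right : RingAut K) * (h.right : RingAut K) = _; rw [hk, ← pow_add])]
      · have := RingEquiv.congr_fun ((congrArg Subtype.val e).symm.trans hk)
        obtain ⟨w, hw⟩ := IsCyclic.exists_generator (α := Kˣ)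
        have h2 : w ^ 2 = 1 := Units.ext (by
          have := (this (w : K)).symm
          rw [frobAut_pow] at this
          rw [Units.val_pow_eq_pow_val, Units.val_one]
          exact mul_left_cancel₀ w.ne_zero (by simpa [pow_succ, mul_assoc] using this))
        have := orderOf_dvd_of_pow_eq_one h2
        rw [orderOf_eq_card_of_forall_mem_zpowers hw, Nat.card_units, hK] at this
        exact absurd this (by decide)
    · refine ⟨6, by simp, ?_⟩
      rw [show 6 = 2 * 3 from rfl, pow_mul]
      refine hfin 2 (hsq _ hk) fun e => ?_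
      have := RingEquiv.congr_fun ((congrArg Subtype.val e).symm.trans hk)
      obtain ⟨w, hw⟩ := IsCyclic.exists_generator (α := Kˣ)
      have h2 : w ^ 8 = 1 := Units.ext (by
        have := (this (w : K)).symm
        rw [frobAut_pow] at this
        rw [Units.val_pow_eq_pow_val, Units.val_one]
        exact mul_left_cancel₀ w.ne_zero (by simpa [pow_succ, mul_assoc] using this))
      have := orderOf_dvd_of_pow_eq_one h2
      rw [orderOf_eq_card_of_forall_mem_zpowers hw, Nat.card_units, hK] at this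
      exact absurd this (by decide)
    · refine ⟨12, by simp, ?_⟩
      rw [show 12 = 4 * 3 from rfl, pow_mul]
      refine hfin 4 ?_ fun e => ?_
      · rw [show 4 = 2 * 2 from rfl, pow_mul, hsq _ (by
          rw [pow_two]; show (h.right : RingAut K) * (h.right : RingAut K) = _
          rw [hk, ← pow_add, show 3 + 3 = 4 + 2 from rfl, pow_add, hfrob4, one_mul])]
      · have := RingEquiv.congr_fun ((congrArg Subtype.val e).symm.trans hk)
        obtain ⟨w, hw⟩ := IsCyclic.exists_generator (α := Kˣ)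
        have h2 : w ^ 26 = 1 := Units.ext (by
          have := (this (w : K)).symm
          rw [frobAut_pow] at this
          rw [Units.val_pow_eq_pow_val, Units.val_one]
          exact mul_left_cancel₀ w.ne_zero (by simpa [pow_succ, mul_assoc] using this))
        have := orderOf_dvd_of_pow_eq_one h2
        rw [orderOf_eq_card_of_forall_mem_zpowers hw, Nat.card_units, hK] at this
        exact absurd this (by decide)
  -- witnesses
  obtain ⟨w, hw⟩ := IsCyclic.exists_generator (α := Kˣ)
  have how : orderOf w = 80 := by rw [orderOf_eq_card_of_forall_mem_zpowers hw, Nat.card_units, hK]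
  let φ : Subgroup.zpowers (frobAut K) := ⟨frobAut K, Subgroup.mem_zpowers _⟩
  have hφj : ∀ j, φ ^ j = 1 → w ^ (3 ^ j - 1) = 1 := fun j hj => Units.ext (by
    have := RingEquiv.congr_fun (congrArg Subtype.val hj) (w : K)
    rw [SubmonoidClass.coe_pow, frobAut_pow] at this
    rw [Units.val_pow_eq_pow_val, Units.val_one]
    refine mul_left_cancel₀ w.ne_zero ?_
    rw [← pow_succ', Nat.sub_add_cancel (Nat.one_le_pow _ _ (by norm_num)), mul_one]
    exact this)
  have hord4 : ∀ j, φ ^ j = 1 → 4 ∣ j := fun j hj => by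
    have h4 : φ ^ 4 = 1 := Subtype.ext (by simpa using hfrob4)
    refine Nat.dvd_of_mod_eq_zero ?_
    have := orderOf_dvd_of_pow_eq_one (hφj (j % 4) (pow_eq_pow_mod j h4 ▸ hj))
    rw [how] at this
    have hlt := Nat.mod_lt j (show 4 > 0 by norm_num)
    interval_cases (j % 4) <;> simp_all
  let y : Pt K := ⟨1, 0, 0, 0, 0, 0, 0⟩
  have hfix : ∀ j, complAct K (SemidirectProduct.inr (φ ^ j)) y = y := fun j => by
    show scPt ((SemidirectProduct.inr (φ ^ j) : Compl5 K).left : Kˣ) (mapPt _ y) = y
    rw [SemidirectProduct.left_inr]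
    ext <;> simp [scPt, mapPt, y]
  have hy3 : ∀ j, y ^ j = 1 → 3 ∣ j := fun j hj => by
    have ha : ∀ i : ℕ, (y ^ i).a = (i : K) := fun i => by
      induction i with
      | zero => simp [Pt.one_def]
      | succ i ih => rw [pow_succ, Pt.mul_def]; simp only [ih, Nat.cast_succ]; rfl
    refine (CharP.cast_eq_zero_iff K 3 j).1 ?_
    rw [← ha, hj]; rfl
  have hmix : ∀ (i N : ℕ), (∀ j, (φ ^ i) ^ j = 1 → N ∣ j) → Nat.Coprime N 3 → N * 3 ∣
      orderOf ((SemidirectProduct.inl y : SolvGrp K) * SemidirectProduct.inr (SemidirectProduct.inr (φ ^ i))) := by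
    intro i N hN hc
    obtain ⟨h0, hh0⟩ : ∃ h0 : Compl5 K, SemidirectProduct.inr (φ ^ i) = h0 := ⟨_, rfl⟩
    have hf := hfix i
    rw [hh0] at hf ⊢
    have hcomm : Commute (SemidirectProduct.inl y : SolvGrp K) (SemidirectProduct.inr h0) :=
      SemidirectProduct.ext (by simp [hf]) (by simp)
    have h := pow_orderOf_eq_one ((SemidirectProduct.inl y : SolvGrp K) * SemidirectProduct.inr h0)
    rw [hcomm.mul_pow, ← map_pow, ← map_pow] at h
    generalize orderOf ((SemidirectProduct.inl y : SolvGrp K) * SemidirectProduct.inr h0) = j at h ⊢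
    have hr : h0 ^ j = 1 := by simpa [-map_pow] using congrArg SemidirectProduct.right h
    have hl : y ^ j = 1 := by simpa [-map_pow] using congrArg SemidirectProduct.left h
    refine hc.mul_dvd_of_dvd_of_dvd (hN _ ?_) (hy3 _ hl)
    refine SemidirectProduct.inr_injective (φ := rootAct K) ?_
    rw [map_pow, hh0, hr, map_one]
  rw [hnums] at hT
  simp only [List.mem_cons, List.not_mem_nil, or_false] at hT
  rcases hT with rfl | rfl | rfl | rfl | rfl
  · have h5 : w ^ 16 ∈ rootsOfUnity 5 K := by
      rw [mem_rootsOfUnity, ← pow_mul, show 16 * 5 = orderOf w by rw [how], pow_orderOf_eq_one]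
    refine ⟨SemidirectProduct.inr (SemidirectProduct.inl ⟨w ^ 16, h5⟩), ?_⟩
    rw [orderOf_injective _ SemidirectProduct.inr_injective, orderOf_injective _ SemidirectProduct.inl_injective,
      ← orderOf_injective _ (Subgroup.subtype_injective _)]
    show 5 ∣ orderOf (w ^ 16)
    rw [orderOf_pow' _ (by norm_num), how]
    norm_num
  · refine ⟨SemidirectProduct.inr (SemidirectProduct.inr φ), hord4 _ ?_⟩
    refine SemidirectProduct.inr_injective (φ := rootAct K) (SemidirectProduct.inr_injective (φ := complAct K) ?_)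
    rw [map_pow, map_pow, pow_orderOf_eq_one, map_one, map_one]
  · exact ⟨_, hmix 2 2 (fun j hj => by
      rw [← pow_mul] at hj
      have := hord4 _ hj
      omega) (by norm_num)⟩
  · exact ⟨_, hmix 1 4 (fun j hj => hord4 _ (by simpa using hj)) (by norm_num)⟩
  · refine ⟨SemidirectProduct.inl ⟨1, w, 0, 0, 0, 0, 0⟩, ?_⟩
    rw [orderOf_injective _ SemidirectProduct.inl_injective]
    suffices h : ¬ (⟨1, w, 0, 0, 0, 0, 0⟩ : Pt K) ^ 3 ^ 1 = 1 by
      rw [orderOf_eq_prime_pow (p := 3) (n := 1) h (Pt.pow_nine _)]; norm_num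
    rw [show 3 ^ 1 = 3 from rfl, Pt.cube, Pt.one_def]
    intro e
    have hz := congrArg Pt.z e
    simp only [one_pow, one_mul, sub_eq_zero] at hz
    have h8 : w ^ 8 = 1 := Units.ext (by
      rw [Units.val_pow_eq_pow_val, Units.val_one]
      exact mul_right_cancel₀ w.ne_zero (by rw [one_mul, ← pow_succ]; exact hz))
    have := orderOf_dvd_of_pow_eq_one h8
    rw [how] at this
    exact absurd this (by decide)

/-- A solvable group with the spectrum of `PSp_4(3)`. -/
theorem exists_solvable_psp_three {F : Type*} [Field F] [Fintype F] (hF : Fintype.card F = 3) :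
    ∃ (H : Type) (_ : Group H) (_ : Fintype H), Group.IsSolvable H ∧
      Set.range (orderOf : H → ℕ) = Set.range (orderOf : Cfsg.PSp 2 F → ℕ) := by
  haveI : Fact (Nat.Prime 3) := ⟨Nat.prime_three⟩
  haveI : CharP F 3 := by
    obtain ⟨p, hp⟩ := CharP.exists F
    obtain ⟨n, hprime, hcard⟩ := FiniteField.card F p
    rw [hF] at hcard
    have : p ∣ 3 := hcard ▸ dvd_pow_self p n.ne_zero
    rwa [(Nat.prime_dvd_prime_iff_eq hprime Nat.prime_three).1 this] at hp
  let K := GaloisField 3 4
  have hK : Nat.card K = 81 := by rw [GaloisField.card 3 4 (by norm_num)]; norm_num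
  haveI : Finite K := Nat.finite_of_card_ne_zero (by omega)
  haveI : Finite (RingAut K) := Finite.of_injective (fun φ => (φ : K → K)) DFunLike.coe_injective
  haveI : Finite (Compl5 K) := Finite.of_equiv _ SemidirectProduct.equivProd.symm
  haveI : Finite (SolvGrp K) := Finite.of_equiv _ SemidirectProduct.equivProd.symm
  refine ⟨SolvGrp K, inferInstance, Fintype.ofFinite _, solv_isSolvable, ?_⟩
  rw [range_psp (F := F) (p := 3), hF, solv_range hK]

end CfsgLib.SpecSpFour
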