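import Cfsg.Agent.SpecSpFour.Herm

/-!
The action `X ↦ (A ⊗ A^(3)) X (A^(q) ⊗ A^(q))ᵗ` of `SL_2(q²)`: a group whose extensions by copies of this
module have the spectrum of `PSp_4(q)` for `q` an even power of three.
-/

set_option autoImplicit false
set_option linter.style.haveILetI false

namespace CfsgLib.SpecSpFour

open Matrix CfsgLib.SpecSpEight
open scoped Kronecker

universe u

variable {K : Type u} [Field K] [CharP K 3]

local notation "M2" => Matrix (Fin 2) (Fin 2) K
local notation "M4" => Matrix (Fin 2 × Fin 2) (Fin 2 × Fin 2) K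
local notation "SL" => Matrix.SpecialLinearGroup (Fin 2) K

/-- `A ⊗ A^(3)`. -/
def kL (A : M2) : M4 := A ⊗ₖ A.map (frobenius K 3)

/-- `(A^(q) ⊗ A^(q))ᵗ`. -/
def kR (f : ℕ) (A : M2) : M4 :=
  (A.map (iterateFrobenius K 3 f) ⊗ₖ A.map (iterateFrobenius K 3 f))ᵀ

theorem kL_one : kL (1 : M2) = 1 := by
  rw [kL, Matrix.map_one _ (map_zero _) (map_one _), Matrix.one_kronecker_one]

theorem kL_mul (A B : M2) : kL (A * B) = kL A * kL B := by
  rw [kL, kL, kL, Matrix.map_mul, Matrix.mul_kronecker_mul]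

theorem kR_one (f : ℕ) : kR f (1 : M2) = 1 := by
  rw [kR, Matrix.map_one _ (map_zero _) (map_one _), Matrix.one_kronecker_one, Matrix.transpose_one]

theorem kR_mul (f : ℕ) (A B : M2) : kR f (A * B) = kR f B * kR f A := by
  rw [kR, kR, kR, Matrix.map_mul, Matrix.mul_kronecker_mul, Matrix.transpose_mul]

theorem kL_map {E : Type*} [Field E] [CharP E 3] (i : K →+* E) (A : M2) : (kL A).map i = kL (A.map i) := by
  ext a b; simp [kL, frobenius_def, map_pow]

theorem kR_map {E : Type*} [Field E] [CharP E 3] (i : K →+* E) (f : ℕ) (A : M2) :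
    (kR f A).map i = kR f (A.map i) := by
  ext a b; simp [kR, iterateFrobenius_def, map_pow]

theorem kL_neg (A : M2) : kL (-A) = kL A := by
  ext a b; simp [kL, frobenius_def, Odd.neg_pow (show Odd 3 by decide)]

theorem kR_neg (f : ℕ) (A : M2) : kR f (-A) = kR f A := by
  ext a b; simp [kR]

/-- The representation. -/
def krep (f : ℕ) : SL →* Module.End K M4 where
  toFun A :=
    { toFun := fun X => kL A.1 * X * kR f A.1
      map_add' := fun X Y => by rw [mul_add, add_mul]
      map_smul' := fun c X => by rw [Matrix.mul_smul, Matrix.smul_mul, RingHom.id_apply] }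
  map_one' := LinearMap.ext fun X => by simp [kL_one, kR_one]
  map_mul' A B := LinearMap.ext fun X => by
    simp [kL_mul, kR_mul, mul_assoc]

theorem krep_apply (f : ℕ) (A : SL) (X : M4) : krep f A X = kL A.1 * X * kR f A.1 := rfl

theorem krep_eq_one_of_pm {f : ℕ} {A : SL} (h : A.1 = 1 ∨ A.1 = -1) : krep f A = 1 := by
  refine LinearMap.ext fun X => ?_
  rw [krep_apply]
  rcases h with e | e <;> simp [e, kL_neg, kR_neg, kL_one, kR_one]

theorem eq_pm_of_krep {f : ℕ} {A : SL} (h : krep f A = 1) : A.1 = 1 ∨ A.1 = -1 := by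
  have hX : ∀ X : M4, kL A.1 * X * kR f A.1 = X := fun X => LinearMap.congr_fun h X
  have h1 : kR f A.1 * kL A.1 = 1 := mul_eq_one_comm.1 (by simpa using hX 1)
  have hc : ∀ X : M4, kL A.1 * X = X * kL A.1 := fun X => by
    calc kL A.1 * X = kL A.1 * X * (kR f A.1 * kL A.1) := by rw [h1, mul_one]
      _ = X * kL A.1 := by rw [← mul_assoc, hX]
  have hd := A.2
  rw [Matrix.det_fin_two] at hd
  have hoff : ∀ a b : Fin 2 × Fin 2, a ≠ b → kL A.1 a b = 0 := fun a b hab => by
    have e := congrFun (congrFun (hc (Matrix.single a a 1)) a) b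
    simpa [Matrix.mul_apply, Matrix.single_apply, hab, Ne.symm hab] using e.symm
  have hdiag : ∀ a b : Fin 2 × Fin 2, a ≠ b → kL A.1 a a = kL A.1 b b := fun a b hab => by
    have e := congrFun (congrFun (hc (Matrix.single a b 1)) a) b
    simpa [Matrix.mul_apply, Matrix.single_apply] using e
  have h01 : A.1 0 1 = 0 := by
    simpa [kL, frobenius_def] using hoff (0, 0) (1, 1) (by decide)
  have h10 : A.1 1 0 = 0 := by
    simpa [kL, frobenius_def] using hoff (1, 1) (0, 0) (by decide)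
  rw [h01, zero_mul, sub_zero] at hd
  have e := hdiag (0, 0) (1, 0) (by decide)
  simp [kL, frobenius_def] at e
  have h00 : A.1 0 0 ≠ 0 := fun e0 => by simp [e0] at hd
  rcases e with e | e
  · rw [e] at hd
    rcases mul_self_eq_one_iff.1 hd with e' | e'
    · left; ext i j; fin_cases i <;> fin_cases j <;> simp [h01, h10, e, e']
    · right; ext i j; fin_cases i <;> fin_cases j <;> simp [h01, h10, e, e']
  · exact absurd e h00

/-- Eigenvalues over an algebraically closed field. -/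
theorem exists_eig {E : Type*} [Field E] [IsAlgClosed E] {A : Matrix (Fin 2) (Fin 2) E} (h2 : (2 : E) ≠ 0)
    (hA : A.det = 1) (h4 : A.trace ^ 2 ≠ 4) :
    ∃ (l : Eˣ) (Q Q' : Matrix (Fin 2) (Fin 2) E), Q * Q' = 1 ∧ Q' * Q = 1 ∧
      A * Q = Q * !![(l : E), 0; 0, ((l⁻¹ : Eˣ) : E)] ∧ l ^ 2 ≠ 1 := by
  rw [Matrix.det_fin_two] at hA
  rw [Matrix.trace_fin_two] at h4
  set a := A 0 0
  set b := A 0 1
  set c := A 1 0
  set d := A 1 1
  obtain ⟨z, hz⟩ := IsAlgClosed.exists_eq_mul_self ((a + d) ^ 2 - 4)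
  have key : ∀ l m : E, l + m = a + d → l * m = 1 → ∀ Q : Matrix (Fin 2) (Fin 2) E, Q.det ≠ 0 →
      A * Q = Q * !![l, 0; 0, m] → ∃ (l : Eˣ) (Q Q' : Matrix (Fin 2) (Fin 2) E), Q * Q' = 1 ∧ Q' * Q = 1 ∧
      A * Q = Q * !![(l : E), 0; 0, ((l⁻¹ : Eˣ) : E)] ∧ l ^ 2 ≠ 1 := fun l m hs hp Q hQ he => by
    refine ⟨⟨l, m, hp, (mul_comm m l).trans hp⟩, Q, Q⁻¹, Matrix.mul_nonsing_inv _ (isUnit_iff_ne_zero.2 hQ),
      Matrix.nonsing_inv_mul _ (isUnit_iff_ne_zero.2 hQ), he, fun e => h4 ?_⟩
    have e' : l ^ 2 = 1 := congrArg Units.val e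
    have hml : m = l := by linear_combination l * hp - m * e'
    rw [← hs, hml]
    linear_combination 4 * e'
  obtain ⟨l, m, hs, hp⟩ : ∃ l m : E, l + m = a + d ∧ l * m = 1 :=
    ⟨(a + d + z) / 2, (a + d - z) / 2, by field_simp; ring, by field_simp; linear_combination hz⟩
  have hlm : l ≠ m := fun e => h4 (by rw [← hs, e]; rw [e] at hp; linear_combination 4 * hp)
  have eA : A = !![a, b; c, d] := Matrix.eta_fin_two A
  by_cases hb : b = 0
  · by_cases hc : c = 0
    · refine key a d rfl (by rw [hb] at hA; linear_combination hA) 1 (by simp) ?_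
      rw [mul_one, one_mul, eA, hb, hc]
    · refine key l m hs hp !![l - d, m - d; c, c] ?_ ?_
      · rw [Matrix.det_fin_two_of, show (l - d) * c - (m - d) * c = (l - m) * c by ring]
        exact mul_ne_zero (sub_ne_zero.2 hlm) hc
      · rw [eA, Matrix.mul_fin_two, Matrix.mul_fin_two]
        ext i j
        fin_cases i <;> fin_cases j <;> simp
        · linear_combination -l * hs + hp - hA
        · linear_combination -m * hs + hp - hA
        · ring
        · ring
  · refine key l m hs hp !![b, b; l - a, m - a] ?_ ?_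
    · rw [Matrix.det_fin_two_of, show b * (m - a) - b * (l - a) = b * (m - l) by ring]
      exact mul_ne_zero hb (sub_ne_zero.2 (Ne.symm hlm))
    · rw [eA, Matrix.mul_fin_two, Matrix.mul_fin_two]
      ext i j
      fin_cases i <;> fin_cases j <;> simp
      · ring
      · ring
      · linear_combination -l * hs + hp - hA
      · linear_combination -m * hs + hp - hA

/-- `1` and `-1`. -/
def sg : Fin 2 → ℤ := ![1, -1]

theorem weight_natAbs (q : ℕ) (hq : 3 ≤ q) (a b c d : Fin 2) :
    (sg a + 3 * sg b + q * sg c + q * sg d).natAbs = 4 ∨ (sg a + 3 * sg b + q * sg c + q * sg d).natAbs = 2 ∨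
    (sg a + 3 * sg b + q * sg c + q * sg d).natAbs = 2 * (q + 2) ∨
    (sg a + 3 * sg b + q * sg c + q * sg d).natAbs = 2 * (q + 1) ∨
    (sg a + 3 * sg b + q * sg c + q * sg d).natAbs = 2 * (q - 1) ∨
    (sg a + 3 * sg b + q * sg c + q * sg d).natAbs = 2 * (q - 2) := by
  fin_cases a <;> fin_cases b <;> fin_cases c <;> fin_cases d <;> simp [sg] <;> omega

theorem sq_mod_five {f : ℕ} (hf : Even f) : 3 ^ f % 5 = 1 ∨ 3 ^ f % 5 = 4 := by
  obtain ⟨s, rfl⟩ := hf
  induction s with
  | zero => simp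
  | succ s ih => rw [show s + 1 + (s + 1) = s + s + 2 by ring, pow_add, Nat.mul_mod]; rcases ih with e | e <;> simp [e]

theorem sq_sub_bad {q s : ℕ} (hq : 3 ≤ q) (hs : s = q + 2 ∨ s + 2 = q) :
    ∃ k, 2 * (q ^ 2 - 1) = k * (2 * s) + 6 := by
  obtain ⟨r, rfl⟩ : ∃ r, q = r + 2 := ⟨q - 2, by omega⟩
  rw [show (r + 2) ^ 2 = r * (r + 4) + 3 + 1 by ring, Nat.add_sub_cancel]
  rcases hs with rfl | hs
  · exact ⟨r, by ring⟩
  · obtain rfl : s = r := by omega
    exact ⟨s + 4, by ring⟩

theorem sq_add_bad {q s : ℕ} (hq : 3 ≤ q) (hs : s = q + 2 ∨ s + 2 = q) :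
    ∃ k, 2 * (q ^ 2 + 1) = k * (2 * s) + 10 := by
  obtain ⟨r, rfl⟩ : ∃ r, q = r + 2 := ⟨q - 2, by omega⟩
  rcases hs with rfl | hs
  · exact ⟨r, by ring⟩
  · obtain rfl : s = r := by omega
    exact ⟨s + 4, by ring⟩

/-- A fixed vector forces a small order. -/
theorem fix_cases {f : ℕ} (hf : Even f) (hf1 : 1 ≤ f) {A : SL} (h4 : A.1.trace ^ 2 ≠ 4)
    (hm : A.1 ^ ((3 ^ f) ^ 2 - 1) = 1 ∨ A.1 ^ ((3 ^ f) ^ 2 + 1) = 1) {X : M4} (hX0 : X ≠ 0)
    (hX : kL A.1 * X * kR f A.1 = X) :
    A.1 ^ 4 = 1 ∨ A.1 ^ (2 * (3 ^ f - 1)) = 1 ∨ A.1 ^ (2 * (3 ^ f + 1)) = 1 := by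
  classical
  set q := 3 ^ f with hq
  have hq3 : 3 ≤ q := by
    calc 3 = 3 ^ 1 := rfl
      _ ≤ q := Nat.pow_le_pow_right (by norm_num) hf1
  let E := AlgebraicClosure K
  let i : K →+* E := algebraMap K E
  haveI : CharP E 3 := charP_of_injective_ringHom i.injective 3
  set A' := A.1.map i with hA'
  have hdet : A'.det = 1 := by rw [hA', ← RingHom.mapMatrix_apply, ← RingHom.map_det, A.2, map_one]
  have htr : A'.trace = i A.1.trace := by simp [hA', Matrix.trace_fin_two]
  have h4' : A'.trace ^ 2 ≠ 4 := fun e => h4 (i.injective (by rw [map_pow, ← htr, e, map_ofNat]))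
  obtain ⟨l, Q, Q', hQ, hQ', he, hl2⟩ :=
    exists_eig (two_ne_zero_of_char (K := E) (p := 3) (by norm_num)) hdet h4'
  set v : Fin 2 → Eˣ := fun k => l ^ sg k with hv
  have hD : !![(l : E), 0; 0, ((l⁻¹ : Eˣ) : E)] = Matrix.diagonal fun k => (v k : E) := by
    ext a b; fin_cases a <;> fin_cases b <;> simp [hv, sg]
  rw [hD] at he
  set D := Matrix.diagonal fun k => (v k : E)
  have hsemi : ∀ N, A' ^ N * Q = Q * D ^ N := fun N =>
    (SemiconjBy.pow_right (show SemiconjBy Q D A' from he.symm) N).eq.symm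
  have hpow : ∀ N, A.1 ^ N = 1 ↔ l ^ N = 1 := fun N => by
    have hA1 : A.1 ^ N = 1 ↔ A' ^ N = 1 := by
      rw [hA', ← RingHom.mapMatrix_apply, ← map_pow, RingHom.mapMatrix_apply]
      exact ⟨fun e => by rw [e, Matrix.map_one _ (map_zero i) (map_one i)],
        fun e => Matrix.map_injective i.injective (e.trans (Matrix.map_one _ (map_zero i) (map_one i)).symm)⟩
    have hDN : D ^ N = 1 ↔ l ^ N = 1 := by
      rw [Matrix.diagonal_pow, ← Matrix.diagonal_one, Matrix.diagonal_eq_diagonal_iff]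
      refine ⟨fun e => Units.ext (by simpa [hv, sg] using e 0), fun e k => ?_⟩
      rw [Pi.pow_apply, ← Units.val_pow_eq_pow_val, hv]
      simp only
      rw [← zpow_natCast, ← _root_.zpow_mul, mul_comm, _root_.zpow_mul, zpow_natCast, e, _root_.one_zpow, Units.val_one]
    rw [hA1, ← hDN]
    refine ⟨fun e => ?_, fun e => ?_⟩
    · calc D ^ N = Q' * (Q * D ^ N) := by rw [← mul_assoc, hQ', one_mul]
        _ = 1 := by rw [← hsemi, e, one_mul, hQ']
    · calc A' ^ N = A' ^ N * Q * Q' := by rw [mul_assoc, hQ, mul_one]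
        _ = 1 := by rw [hsemi, e, mul_one, hQ]
  -- the weight of a nonzero coordinate of a fixed vector
  set X' := X.map i
  have hX' : kL A' * X' * kR f A' = X' := by
    rw [hA', ← kL_map, ← kR_map, ← Matrix.map_mul, ← Matrix.map_mul, hX]
  have hQA : D * Q' = Q' * A' := by
    calc D * Q' = Q' * (Q * D) * Q' := by rw [← mul_assoc Q', hQ', one_mul]
      _ = Q' * A' := by rw [← he, ← mul_assoc, mul_assoc (Q' * A'), hQ, mul_one]
  set Y := kL Q' * X' * kR f Q'
  have hY : kL D * Y * kR f D = Y := by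
    show kL D * (kL Q' * X' * kR f Q') * kR f D = kL Q' * X' * kR f Q'
    calc _ = kL (D * Q') * X' * kR f (D * Q') := by simp only [kL_mul, kR_mul, mul_assoc]
      _ = kL Q' * (kL A' * X' * kR f A') * kR f Q' := by rw [hQA]; simp only [kL_mul, kR_mul, mul_assoc]
      _ = _ := by rw [hX']
  have hY0 : Y ≠ 0 := fun e => hX0 (Matrix.map_injective i.injective (by
    show X' = (0 : M4).map i
    rw [Matrix.map_zero _ (map_zero i)]
    calc X' = kL (Q * Q') * X' * kR f (Q * Q') := by rw [hQ, kL_one, kR_one, one_mul, mul_one]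
      _ = kL Q * Y * kR f Q := by simp only [Y, kL_mul, kR_mul, mul_assoc]
      _ = 0 := by rw [e, mul_zero, zero_mul]))
  obtain ⟨⟨a, b⟩, hr⟩ : ∃ r : Fin 2 × Fin 2, ∃ s, Y r s ≠ 0 := by
    by_contra hn
    push_neg at hn
    exact hY0 (Matrix.ext fun r s => hn r s)
  obtain ⟨⟨c, d⟩, hne⟩ := hr
  have e := congrFun (congrFun hY (a, b)) (c, d)
  rw [show kL D = Matrix.diagonal fun r : Fin 2 × Fin 2 => ((v r.1 * v r.2 ^ 3 : Eˣ) : E) by
      rw [kL, Matrix.diagonal_map (map_zero _), Matrix.diagonal_kronecker_diagonal]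
      simp [frobenius_def],
    show kR f D = Matrix.diagonal fun r : Fin 2 × Fin 2 => (((v r.1) ^ q * (v r.2) ^ q : Eˣ) : E) by
      rw [kR, Matrix.diagonal_map (map_zero _), Matrix.diagonal_kronecker_diagonal, Matrix.diagonal_transpose]
      simp [iterateFrobenius_def, hq],
    Matrix.mul_diagonal, Matrix.diagonal_mul] at e
  have hw : v a * v b ^ 3 * (v c ^ q * v d ^ q) = 1 := Units.ext (mul_right_cancel₀ hne (by
    rw [Units.val_one, one_mul, Units.val_mul]; linear_combination e))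
  have hz : l ^ (sg a + 3 * sg b + q * sg c + q * sg d) = 1 := by
    rw [← hw, hv]
    simp only
    simp only [← zpow_natCast (l ^ sg b), ← zpow_natCast (l ^ sg c), ← zpow_natCast (l ^ sg d), ← _root_.zpow_mul,
      ← _root_.zpow_add]
    congr 1
    push_cast
    ring
  have hord := Int.natCast_dvd.1 (orderOf_dvd_iff_zpow_eq_one.2 hz)
  have hw' : ∀ {N : ℕ}, (sg a + 3 * sg b + q * sg c + q * sg d).natAbs = N → l ^ N = 1 := fun {N} h =>
    orderOf_dvd_iff_pow_eq_one.1 (h ▸ hord)
  have h5 := sq_mod_five hf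
  rw [← hq] at h5
  have hbad : ∀ s : ℕ, l ^ (2 * s) = 1 → (s = q + 2 ∨ s + 2 = q) → False := fun s h1 hs => by
    rcases hm.imp (hpow _).1 (hpow _).1 with h | h
    · have h6 : l ^ 6 = 1 := by
        obtain ⟨k, hsq⟩ := sq_sub_bad hq3 hs
        have := congrArg (· ^ 2) h
        simp only [← pow_mul, one_pow] at this
        rw [mul_comm (q ^ 2 - 1), hsq, pow_add, mul_comm _ (2 * s), pow_mul, h1, one_pow, one_mul] at this
        exact this
      refine hl2 (Units.ext (sub_eq_zero.1 (pow_eq_zero_iff three_ne_zero |>.1 ?_)))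
      rw [sub_pow_char, Units.val_pow_eq_pow_val, Units.val_one, ← pow_mul, one_pow, ← Units.val_pow_eq_pow_val, h6,
        Units.val_one, sub_self]
    · have h10 : (l ^ 2) ^ 5 = 1 := by
        obtain ⟨k, hsq⟩ := sq_add_bad hq3 hs
        have := congrArg (· ^ 2) h
        simp only [← pow_mul, one_pow] at this
        rw [mul_comm (q ^ 2 + 1), hsq, pow_add, mul_comm _ (2 * s), pow_mul, h1, one_pow, one_mul] at this
        rw [← pow_mul]; exact this
      have hcop : Nat.gcd 5 s = 1 := (Nat.Prime.coprime_iff_not_dvd Nat.prime_five).2 (by omega)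
      have := pow_gcd_eq_one.2 ⟨h10, show (l ^ 2) ^ s = 1 by rw [← pow_mul, h1]⟩
      rw [hcop, pow_one] at this
      exact hl2 this
  rcases weight_natAbs q hq3 a b c d with h | h | h | h | h | h
  · exact Or.inl ((hpow _).2 (hw' h))
  · exact Or.inl ((hpow _).2 (by rw [show 4 = 2 * 2 from rfl, pow_mul, hw' h, one_pow]))
  · exact (hbad _ (hw' h) (Or.inl rfl)).elim
  · exact Or.inr (Or.inr ((hpow _).2 (hw' h)))
  · exact Or.inr (Or.inl ((hpow _).2 (hw' h)))
  · exact (hbad _ (hw' h) (Or.inr (by omega))).elim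

variable [Finite K] {f : ℕ}

theorem clog_nine : (3 : ℕ) ^ Nat.clog 3 4 = 9 := by norm_num [Nat.clog_of_two_le]

theorem krep_num (hf : Even f) (hf1 : 1 ≤ f) (hK : Nat.card K = 3 ^ (2 * f)) (A : SL) :
    ∃ T ∈ nums (3 ^ f) 3, krep f A ^ T = 1 ∧ gsum (krep f A) T = 0 := by
  haveI := Fintype.ofFinite K
  have h2 : (2 : K) ≠ 0 := two_ne_zero_of_char (p := 3) (by norm_num)
  have hone : ∀ T, A.1 ^ T = 1 ∨ A.1 ^ T = -1 → krep f A ^ T = 1 := fun T e => by
    rw [← map_pow]; exact krep_eq_one_of_pm e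
  have hodd : Odd (3 ^ f) := (show Odd 3 by decide).pow
  by_cases h4 : A.1.trace ^ 2 = 4
  · obtain ⟨ε, hε, N, -, -, hAp⟩ := pow_unip (p := 3) A.2 h4
    have hg : krep f A ^ 3 = 1 := hone 3 (by
      rcases hε with rfl | rfl
      · left; rw [hAp, one_pow, one_smul]
      · right; rw [hAp, (show Odd 3 by decide).neg_one_pow, neg_one_smul])
    refine ⟨9, by simp [nums, clog_nine], ?_, gsum_mul_char (p := 3) (N := 3) hg⟩
    rw [show 9 = 3 * 3 from rfl, pow_mul, hg, one_pow]
  · have hsq : (3 ^ f) ^ 2 = 3 ^ (2 * f) := by rw [← pow_mul, mul_comm]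
    have htK : A.1.trace ^ 3 ^ (2 * f) = A.1.trace := by
      rw [← hK, Nat.card_eq_fintype_card, FiniteField.pow_card]
    have hm := pow_frob_cases (p := 3) A.2 h4 htK
    rw [← hsq] at hm
    have of_dvd : ∀ {d T : ℕ}, (A.1 ^ d = 1 ∨ A.1 ^ d = -1) → 3 * T ∈ nums (3 ^ f) 3 → d ∣ T →
        ∃ T ∈ nums (3 ^ f) 3, krep f A ^ T = 1 ∧ gsum (krep f A) T = 0 := fun {d T} hd hT hdT => by
      obtain ⟨c, rfl⟩ := hdT
      have hg : krep f A ^ (d * c) = 1 := by rw [pow_mul, hone d hd, one_pow]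
      exact ⟨_, hT, by rw [mul_comm 3, pow_mul, hg, one_pow], gsum_mul_char (p := 3) hg⟩
    by_cases hfix : ∃ X, X ≠ 0 ∧ krep f A X = X
    · obtain ⟨X, hX0, hX⟩ := hfix
      rcases fix_cases hf hf1 h4 hm hX0 hX with e | e | e
      · exact of_dvd (pow_half A.2 h2 (N := 2) e) (T := 3 ^ f - 1) (by simp [nums])
          (Nat.Odd.sub_odd hodd odd_one).two_dvd
      · exact of_dvd (pow_half A.2 h2 e) (by simp [nums]) dvd_rfl
      · exact of_dvd (pow_half A.2 h2 e) (by simp [nums]) dvd_rfl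
    · push_neg at hfix
      have hfree : ∀ X, krep f A X = X → X = 0 := fun X hX => by
        by_contra h; exact hfix X h hX
      have hd : dd 3 = 2 := rfl
      rcases hm with e | e
      · rw [← Nat.mul_div_cancel' (Nat.Odd.sub_odd hodd.pow odd_one).two_dvd] at e
        have hg := hone _ (pow_half A.2 h2 e)
        exact ⟨_, by simp [nums, hd], hg, gsum_eq_zero_of_free hg hfree⟩
      · rw [← Nat.mul_div_cancel' hodd.pow.add_one.two_dvd] at e
        have hg := hone _ (pow_half A.2 h2 e)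
        exact ⟨_, by simp [nums, hd], hg, gsum_eq_zero_of_free hg hfree⟩

/-- Unboundedly many groups with the spectrum of `PSp_4(q)`, `q` an even power of three. -/
theorem nine_unbounded (hf : Even f) (hf1 : 1 ≤ f) (hK : Nat.card K = 3 ^ (2 * f)) (M : ℕ) :
    ∃ (H : Type) (_ : Group H) (_ : Fintype H), M < Fintype.card H ∧
      Set.range (orderOf : H → ℕ) = spec (3 ^ f) 3 := by
  classical
  haveI := Fintype.ofFinite K
  haveI : Finite (Module.End K M4) := Finite.of_injective (fun g => (g : M4 → M4)) DFunLike.coe_injective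
  haveI : Finite (Module.End K M4)ˣ := Finite.of_injective Units.val Units.val_injective
  let G : Subgroup (Module.End K M4)ˣ := (krep (K := K) f).toHomUnits.range
  let ρ : G →* Module.End K M4 := (Units.coeHom _).comp G.subtype
  let π : SL →* G := (krep (K := K) f).toHomUnits.rangeRestrict
  have hπ : ∀ A, ρ (π A) = krep f A := fun A => rfl
  have hker : ∀ {A : SL} {j : ℕ}, π A ^ j = 1 → (A ^ j).1 = 1 ∨ (A ^ j).1 = -1 := fun {A j} h => by
    refine eq_pm_of_krep (f := f) ?_
    rw [← hπ, map_pow π, h, map_one]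
  have hodd : Odd (3 ^ f) := (show Odd 3 by decide).pow
  have hd : dd 3 = 2 := rfl
  refine unbounded_of ρ (fun g => ?_) (fun T hT => ?_) M
  · obtain ⟨A, hA⟩ := (krep (K := K) f).toHomUnits.rangeRestrict_surjective g
    obtain ⟨T, hT, h1, h2⟩ := krep_num hf hf1 hK A
    subst hA
    refine ⟨T, hT, Subtype.ext (Units.ext ?_), h2⟩
    show ρ (π A ^ T) = 1
    rw [map_pow, hπ, h1]
  obtain ⟨a, ha, -⟩ := exists_units (K := K) (p := 3) (f := f) (τ := iterateFrobenius K 3 f)
    (fun x => iterateFrobenius_def 3 f x) hK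
  set q := 3 ^ f with hq
  have hq3 : 3 ≤ q := by
    calc 3 = 3 ^ 1 := rfl
      _ ≤ q := Nat.pow_le_pow_right (by norm_num) hf1
  have h3q : 3 ∣ q := dvd_pow_self 3 (by omega)
  have hdg : ∀ {b : Kˣ} {j : ℕ}, π (dg b) ^ j = 1 → b ^ (2 * j) = 1 := fun {b j} h => by
    have h' := hker h
    rw [show dg b ^ j = dg (b ^ j) from (map_pow dgHom b j).symm] at h'
    refine Units.ext ?_
    rw [mul_comm, pow_mul, Units.val_pow_eq_pow_val, Units.val_one]
    have key : ((b ^ j : Kˣ) : K) = 1 ∨ ((b ^ j : Kˣ) : K) = -1 := by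
      rcases h' with e | e <;> [left; right] <;> simpa [dg] using congrFun (congrFun e 0) 0
    rcases key with e | e <;> rw [e] <;> ring
  have wit : ∀ (b : Kˣ) (N : ℕ) (r s : Fin 2 × Fin 2), orderOf b = 2 * N → ¬ 3 ∣ N →
      kL (dg b).1 r r * kR f (dg b).1 s s = 1 →
      ∃ (g : G) (x : M4), ∀ j, g ^ j = 1 → gsum (ρ g) j x = 0 → 3 * N ∣ j := by
    intro b N r s hb h3 hrs
    refine ⟨π (dg b), Matrix.single r s 1, crit_char (p := 3) ρ ?_ (fun j hj => ?_) ?_⟩
    · rw [hπ, ← map_pow, show dg b ^ N = dg (b ^ N) from (map_pow dgHom b _).symm]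
      refine krep_eq_one_of_pm ?_
      have hsq : ((b ^ N : Kˣ) : K) * ((b ^ N : Kˣ) : K) = 1 := by
        rw [← Units.val_mul, ← pow_add, ← two_mul, ← hb, pow_orderOf_eq_one, Units.val_one]
      have hinv : (b ^ N)⁻¹ = b ^ N := inv_eq_of_mul_eq_one_right (Units.ext hsq)
      rcases mul_self_eq_one_iff.1 hsq with e | e <;> [left; right] <;>
        (show !![((b ^ N : Kˣ) : K), 0; 0, (((b ^ N)⁻¹ : Kˣ) : K)] = _
         rw [hinv, e]
         ext i j; fin_cases i <;> fin_cases j <;> simp)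
    · have := orderOf_dvd_of_pow_eq_one (hdg hj)
      rw [hb] at this
      exact Nat.dvd_of_mul_dvd_mul_left two_pos this
    · have hfix : ρ (π (dg b)) (Matrix.single r s 1) = Matrix.single r s 1 := by
        have eL : kL (dg b).1 = Matrix.diagonal fun k => kL (dg b).1 k k := by
          ext i j
          by_cases hij : i = j
          · subst hij; simp
          · rw [Matrix.diagonal_apply_ne _ hij]
            obtain ⟨i1, i2⟩ := i
            obtain ⟨j1, j2⟩ := j
            fin_cases i1 <;> fin_cases i2 <;> fin_cases j1 <;> fin_cases j2 <;> simp [kL, dg] at hij ⊢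
        have eR : kR f (dg b).1 = Matrix.diagonal fun k => kR f (dg b).1 k k := by
          ext i j
          by_cases hij : i = j
          · subst hij; simp
          · rw [Matrix.diagonal_apply_ne _ hij]
            obtain ⟨i1, i2⟩ := i
            obtain ⟨j1, j2⟩ := j
            fin_cases i1 <;> fin_cases i2 <;> fin_cases j1 <;> fin_cases j2 <;> simp [kR, dg] at hij ⊢
        rw [hπ, krep_apply, eL, eR]
        ext i j
        rw [Matrix.mul_diagonal, Matrix.diagonal_mul]
        by_cases h : r = i ∧ s = j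
        · obtain ⟨rfl, rfl⟩ := h
          simpa using hrs
        · simp [Matrix.single_apply, h]
      rw [gsum_fix hfix, ← Nat.cast_smul_eq_nsmul K, Ne, smul_eq_zero, not_or]
      refine ⟨fun e => h3 ((CharP.cast_eq_zero_iff K 3 N).1 e), fun e => ?_⟩
      simpa using congrFun (congrFun e r) s
  simp only [nums, hd, List.mem_cons, List.not_mem_nil, or_false] at hT
  rcases hT with rfl | rfl | rfl | rfl | rfl
  · obtain ⟨z, hz⟩ := exists_minus_sl (K := K) (p := 3)
    refine ⟨π z, 0, fun j hj _ => div_two_dvd hodd.pow.add_one.two_dvd ?_⟩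
    rw [hq, ← pow_mul, mul_comm f 2, ← hK, Nat.card_eq_fintype_card]
    refine hz.trans (orderOf_dvd_of_pow_eq_one (Subtype.ext ?_))
    rw [mul_comm 2, pow_mul]
    show (z ^ j).1 ^ 2 = 1
    rcases hker hj with e | e <;> rw [e] <;> simp
  · refine ⟨π (dg a), 0, fun j hj _ => div_two_dvd (Nat.Odd.sub_odd hodd.pow odd_one).two_dvd ?_⟩
    have h := orderOf_dvd_of_pow_eq_one (hdg hj)
    rw [ha, mul_comm, ← Nat.sq_sub_sq, one_pow] at h
    exact h
  · obtain ⟨c, hc⟩ := hodd.add_one.two_dvd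
    have hb : orderOf (a ^ c) = 2 * (q - 1) := by
      rw [orderOf_pow' _ (by omega), ha, hc, show (q - 1) * (2 * c) = 2 * (q - 1) * c by ring,
        Nat.gcd_mul_left_left, Nat.mul_div_cancel _ (by omega)]
    have h1 := pow_orderOf_eq_one (a ^ c)
    rw [hb] at h1
    generalize a ^ c = b at hb h1
    refine wit b (q - 1) (0, 1) (0, 0) hb (fun h => ?_) ?_
    · omega
    · have h2 : ((b : K)) ^ (2 * (q - 1)) = 1 := by rw [← Units.val_pow_eq_pow_val, h1, Units.val_one]
      have hne := b.ne_zero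
      simp [kL, kR, dg, frobenius_def, iterateFrobenius_def, ← hq]
      field_simp
      calc _ = (b : K) ^ (2 * (q - 1)) * (b : K) ^ 2 := by
            rw [← pow_add, show 2 * (q - 1) + 2 = q + q by omega, pow_add]; ring
        _ = _ := by rw [h2, one_mul]
  · obtain ⟨c, hc⟩ := (Nat.Odd.sub_odd hodd odd_one).two_dvd
    have hb : orderOf (a ^ c) = 2 * (q + 1) := by
      rw [orderOf_pow' _ (by omega), ha, hc, show 2 * c * (q + 1) = 2 * (q + 1) * c by ring,
        Nat.gcd_mul_left_left, Nat.mul_div_cancel _ (by omega)]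
    have h1 := pow_orderOf_eq_one (a ^ c)
    rw [hb] at h1
    generalize a ^ c = b at hb h1
    refine wit b (q + 1) (1, 0) (0, 0) hb (fun h => ?_) ?_
    · omega
    · have h2 : ((b : K)) ^ (2 * (q + 1)) = 1 := by rw [← Units.val_pow_eq_pow_val, h1, Units.val_one]
      have hne := b.ne_zero
      simp [kL, kR, dg, frobenius_def, iterateFrobenius_def, ← hq]
      field_simp
      linear_combination h2
  · rw [clog_nine]
    let uSL : SL := ⟨!![1, 1; 0, 1], by simp [Matrix.det_fin_two]⟩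
    have hu : ∀ i : ℕ, (uSL ^ i).1 = !![1, (i : K); 0, 1] := fun i => by
      induction i with
      | zero => ext a b; fin_cases a <;> fin_cases b <;> simp
      | succ i ih =>
        rw [pow_succ, Matrix.SpecialLinearGroup.coe_mul, ih]
        show _ * !![(1 : K), 1; 0, 1] = _
        rw [Matrix.mul_fin_two]
        ext a b; fin_cases a <;> fin_cases b <;> simp [add_comm]
    refine ⟨π uSL, Matrix.single (1, 1) (1, 1) 1, fun j hj hs => ?_⟩
    refine crit_char (p := 3) ρ (N := 3) ?_ (fun j hj => ?_) (x := Matrix.single (1, 1) (1, 1) 1) ?_ j hj hs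
    · rw [hπ, ← map_pow]
      refine krep_eq_one_of_pm (Or.inl ?_)
      rw [hu, show ((3 : ℕ) : K) = 0 from CharP.cast_eq_zero K 3]
      ext a b; fin_cases a <;> fin_cases b <;> simp
    · rcases hker hj with e | e
      · rw [hu] at e
        exact (CharP.cast_eq_zero_iff K 3 j).1 (by simpa using congrFun (congrFun e 0) 1)
      · rw [hu] at e
        exact (CharP.cast_eq_zero_iff K 3 j).1 (by simpa using congrFun (congrFun e 0) 1)
    · intro e
      have hterm : ∀ i : ℕ, (ρ (π uSL) ^ i) (Matrix.single (1, 1) (1, 1) (1 : K)) (0, 0) (1, 1) = (i : K) ^ 4 := by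
        intro i
        rw [hπ, ← map_pow, krep_apply, kL, kR, hu]
        simp [Matrix.mul_apply, Matrix.single_apply, frobenius_def, iterateFrobenius_def, Fintype.sum_prod_type,
          Fin.sum_univ_two]
        ring
      have := congrFun (congrFun e (0, 0)) (1, 1)
      rw [gsum, LinearMap.sum_apply, Matrix.sum_apply] at this
      simp only [hterm, Finset.sum_range_succ, Finset.sum_range_zero, Matrix.zero_apply] at this
      have h3 : (3 : K) = 0 := by exact_mod_cast CharP.cast_eq_zero K 3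
      exact one_ne_zero (by linear_combination -this + 6 * h3 : (1 : K) = 0)

end CfsgLib.SpecSpFour
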