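import Cfsg.Agent.SpecSpFour.Core

/-!
The symmetric group of degree five on vectors of sum zero over the field of three elements, twisted by the
sign: extensions by copies of this module have the spectrum of `PSp_4(3)`.
-/

set_option autoImplicit false
set_option linter.style.haveILetI false

namespace CfsgLib.SpecSpFour

open CfsgLib.SpecSpEight

local notation "W3" => Fin 4 → ZMod 3
local notation "S5" => Equiv.Perm (Fin 5)

/-- The vector of sum zero with the given first four entries. -/
def extVec (x : W3) (i : Fin 5) : ZMod 3 := if h : i.1 < 4 then x ⟨i.1, h⟩ else -∑ k, x k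

/-- The sign as an element of the field. -/
def sgnHom : S5 →* ZMod 3 :=
  (Units.coeHom (ZMod 3)).comp ((Units.map (Int.castRingHom (ZMod 3)).toMonoidHom).comp Equiv.Perm.sign)

theorem extVec_cast (x : W3) (k : Fin 4) : extVec x k.castSucc = x k := dif_pos k.2

theorem sum_extVec (x : W3) : ∑ i, extVec x i = 0 := by
  rw [Fin.sum_univ_castSucc]
  simp [extVec]

theorem extVec_of_sum {y : Fin 5 → ZMod 3} (hy : ∑ i, y i = 0) :
    extVec (fun k => y k.castSucc) = y := by
  funext i
  refine Fin.lastCases ?_ (fun k => extVec_cast _ k) i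
  rw [Fin.sum_univ_castSucc] at hy
  simp [extVec]
  exact (eq_neg_of_add_eq_zero_right hy).symm

/-- The representation. -/
def rep5 : S5 →* Module.End (ZMod 3) W3 where
  toFun g :=
    { toFun := fun x k => sgnHom g * extVec x (g⁻¹ k.castSucc)
      map_add' := fun x y => funext fun k => by
        by_cases h : (g⁻¹ k.castSucc).1 < 4 <;> simp only [extVec, h, dite_true, dite_false, Pi.add_apply,
          Finset.sum_add_distrib, neg_add, mul_add]
      map_smul' := fun c x => funext fun k => by
        by_cases h : (g⁻¹ k.castSucc).1 < 4 <;> simp only [extVec, h, dite_true, dite_false, Pi.smul_apply,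
          smul_eq_mul, RingHom.id_apply, ← Finset.mul_sum] <;> ring }
  map_one' := LinearMap.ext fun x => funext fun k => by
    simp [extVec_cast]
  map_mul' g h := LinearMap.ext fun x => funext fun k => by
    have e : extVec (fun m : Fin 4 => sgnHom h * extVec x (h⁻¹ m.castSucc)) =
        fun i => sgnHom h * extVec x (h⁻¹ i) := by
      refine extVec_of_sum (y := fun i => sgnHom h * extVec x (h⁻¹ i)) ?_
      rw [← Finset.mul_sum, Equiv.sum_comp h⁻¹ (extVec x), sum_extVec, mul_zero]
    simp only [Module.End.mul_apply, LinearMap.coe_mk, AddHom.coe_mk]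
    rw [e, map_mul]
    simp [mul_assoc]

theorem rep5_apply (g : S5) (x : W3) (k : Fin 4) : rep5 g x k = sgnHom g * extVec x (g⁻¹ k.castSucc) := rfl

theorem gsum_rep5 (g : S5) (T : ℕ) (x : W3) (k : Fin 4) :
    gsum (rep5 g) T x k = ∑ m ∈ Finset.range T, sgnHom g ^ m * extVec x ((g⁻¹ ^ m) k.castSucc) := by
  simp [gsum, LinearMap.sum_apply, Finset.sum_apply, ← map_pow, rep5_apply, inv_pow]

/-- What is to be checked for one permutation. -/
def okPerm (σ : S5) : Prop :=
  ∃ T ∈ ([5, 4, 6, 12, 9] : List ℕ), σ ^ T = 1 ∧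
    ∀ j k : Fin 4, ∑ m ∈ Finset.range T, sgnHom σ ^ m * extVec (Pi.single j 1) ((σ ^ m) k.castSucc) = 0

instance (σ : S5) : Decidable (okPerm σ) := by unfold okPerm; infer_instance

theorem okPerm_all : ∀ σ : S5, okPerm σ := by decide +kernel

theorem dvd_of_pow_eq_one_of_lt {G : Type*} [Monoid G] {g : G} {N j : ℕ} (hN : g ^ N = 1) (hpos : 0 < N)
    (h : ∀ r < N, g ^ r = 1 → r = 0) (hj : g ^ j = 1) : N ∣ j := by
  refine Nat.dvd_of_mod_eq_zero (h _ (Nat.mod_lt _ hpos) ?_)
  rwa [← Nat.div_add_mod j N, pow_add, pow_mul, hN, one_pow, one_mul] at hj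

theorem nums_three : nums 3 3 = [5, 4, 6, 12, 9] := by
  norm_num [nums, dd, Nat.clog_of_two_le]

/-- Unboundedly many groups with the spectrum of `PSp_4(3)`. -/
theorem three_unbounded (M : ℕ) :
    ∃ (H : Type) (_ : Group H) (_ : Fintype H), M < Fintype.card H ∧
      Set.range (orderOf : H → ℕ) = spec 3 3 := by
  refine unbounded_of rep5 (fun g => ?_) (fun T hT => ?_) M
  · obtain ⟨T, hT, h1, h2⟩ := okPerm_all g⁻¹
    refine ⟨T, nums_three ▸ hT, inv_eq_one.1 (by rw [← inv_pow]; exact h1), ?_⟩
    refine (Pi.basisFun (ZMod 3) (Fin 4)).ext fun j => funext fun k => ?_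
    rw [Pi.basisFun_apply, gsum_rep5, LinearMap.zero_apply, Pi.zero_apply]
    have hs : sgnHom g⁻¹ = sgnHom g := by simp [sgnHom]
    simpa [hs] using h2 j k
  rw [nums_three] at hT
  simp only [List.mem_cons, List.not_mem_nil, or_false] at hT
  rcases hT with rfl | rfl | rfl | rfl | rfl
  · exact ⟨finRotate 5, 0, fun j hj _ => dvd_of_pow_eq_one_of_lt (by decide) (by norm_num) (by decide) hj⟩
  · exact ⟨List.formPerm [0, 1, 2, 3], 0,
      fun j hj _ => dvd_of_pow_eq_one_of_lt (by decide) (by norm_num) (by decide) hj⟩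
  · exact ⟨List.formPerm [0, 1, 2] * Equiv.swap 3 4, 0,
      fun j hj _ => dvd_of_pow_eq_one_of_lt (by decide) (by norm_num) (by decide) hj⟩
  · refine ⟨List.formPerm [0, 1, 2, 3], ![1, -1, 1, -1], fun j hj hs => ?_⟩
    refine crit_char (p := 3) rep5 (N := 4) ?_ (fun j hj => ?_) ?_ j hj hs
    · rw [← map_pow, show (List.formPerm [0, 1, 2, 3] : S5) ^ 4 = 1 by decide, map_one]
    · exact dvd_of_pow_eq_one_of_lt (by decide) (by norm_num) (by decide) hj
    · intro e
      have := congrFun e 0
      rw [gsum_rep5, Pi.zero_apply] at this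
      have h : ∑ m ∈ Finset.range 4, sgnHom (List.formPerm [0, 1, 2, 3] : S5) ^ m *
          extVec ![1, -1, 1, -1] (((List.formPerm [0, 1, 2, 3] : S5)⁻¹ ^ m) (Fin.castSucc (0 : Fin 4))) ≠ 0 := by
        decide +kernel
      exact h this
  · refine ⟨List.formPerm [0, 1, 2], ![1, 0, 0, -1], fun j hj hs => ?_⟩
    refine crit_char (p := 3) rep5 (N := 3) ?_ (fun j hj => ?_) ?_ j hj hs
    · rw [← map_pow, show (List.formPerm [0, 1, 2] : S5) ^ 3 = 1 by decide, map_one]
    · exact dvd_of_pow_eq_one_of_lt (by decide) (by norm_num) (by decide) hj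
    · intro e
      have := congrFun e 0
      rw [gsum_rep5, Pi.zero_apply] at this
      have h : ∑ m ∈ Finset.range 3, sgnHom (List.formPerm [0, 1, 2] : S5) ^ m *
          extVec ![1, 0, 0, -1] (((List.formPerm [0, 1, 2] : S5)⁻¹ ^ m) (Fin.castSucc (0 : Fin 4))) ≠ 0 := by
        decide +kernel
      exact h this

end CfsgLib.SpecSpFour
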