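import Cfsg.Agent.SpecSpFour.PSp
import Cfsg.Agent.SpecSpFour.Nine
import Cfsg.Agent.SpecSpFour.Three
import Mathlib.FieldTheory.Finite.Extension

/-!
`PSp_4(q)` has unboundedly many isospectral groups for `q ≥ 3` other than odd powers of three above three.
-/

set_option autoImplicit false
set_option linter.style.haveILetI false

namespace CfsgLib.SpecSpFour

universe u

variable {F : Type u} [Field F] [Fintype F]

theorem psp_unbounded (hF : ∀ t : ℕ, 1 ≤ t → Fintype.card F ≠ 3 ^ (2 * t + 1)) (N : ℕ) :
    ∃ (H : Type) (_ : Group H) (_ : Fintype H), N < Fintype.card H ∧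
      Set.range (orderOf : H → ℕ) = Set.range (orderOf : Cfsg.PSp 2 F → ℕ) := by
  obtain ⟨p, hpF⟩ := CharP.exists F
  obtain ⟨⟨f, hf⟩, hp, hcard⟩ := FiniteField.card F p
  haveI := Fact.mk hp
  change Fintype.card F = p ^ f at hcard
  rw [range_psp (F := F) (p := p), hcard]
  let K := FiniteField.Extension F p 2
  haveI : CharP K p := charP_of_injective_ringHom (algebraMap F K).injective p
  haveI : Finite K := Finite.of_injective (id : K → K) fun _ _ h => h
  have hK : Nat.card K = p ^ (2 * f) := by
    rw [FiniteField.natCard_extension, Nat.card_eq_fintype_card, hcard, ← pow_mul, mul_comm]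
  haveI := Fintype.ofFinite K
  have hτq : ∀ x : K, iterateFrobenius K p f x = x ^ p ^ f := fun x => iterateFrobenius_def p f x
  have hτ : ∀ x : K, iterateFrobenius K p f (iterateFrobenius K p f x) = x := fun x => by
    rw [hτq, hτq, ← pow_mul, ← pow_add, ← two_mul, ← hK, Nat.card_eq_fintype_card, FiniteField.pow_card]
  rcases (show p = 2 ∨ p = 3 ∨ 5 ≤ p from by
    rcases hp.eq_two_or_odd with h | h
    · exact Or.inl h
    · have := hp.two_le; omega) with h | h | h
  · exact herm_unbounded hτ hτq hK (Or.inl h) N
  · subst h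
    rcases Nat.even_or_odd' f with ⟨s, rfl | rfl⟩
    · exact nine_unbounded (K := K) (by simp) (by omega) hK N
    · rcases Nat.eq_zero_or_pos s with rfl | hs
      · simpa using three_unbounded N
      · exact absurd hcard (hF s hs)
  · exact herm_unbounded hτ hτq hK (Or.inr h) N

end CfsgLib.SpecSpFour
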