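import Cfsg.Agent.SpecSpEight.Unip
import Cfsg.Agent.PrimeGraph.Basic
import Cfsg.Agent.Spectrum.Basic

/-!
The numbers of `PSp_4(q)` and isospectral groups `W^k ⋊ G` from a linear representation.
-/

set_option autoImplicit false
set_option linter.style.haveILetI false

namespace CfsgLib.SpecSpFour

open Polynomial CfsgLib.SpecSpEight

universe u v w

/-- `gcd (2, q - 1)`. -/
def dd (p : ℕ) : ℕ := if p = 2 then 1 else 2

/-- The maximal element orders of `PSp_4(q)`. -/
def nums (q p : ℕ) : List ℕ :=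
  [(q ^ 2 + 1) / dd p, (q ^ 2 - 1) / dd p, p * (q - 1), p * (q + 1), p ^ Nat.clog p 4]

/-- The element orders of `PSp_4(q)`. -/
def spec (q p : ℕ) : Set ℕ := {N | ∃ T ∈ nums q p, N ∣ T}

theorem range_eq_spec {G : Type u} [Group G] [Finite G] {q p : ℕ} (hU : ∀ g : G, ∃ T ∈ nums q p, g ^ T = 1)
    (hL : ∀ T ∈ nums q p, ∃ g : G, T ∣ orderOf g) : Set.range (orderOf : G → ℕ) = spec q p := by
  ext N
  constructor
  · rintro ⟨g, rfl⟩
    obtain ⟨T, hT, h⟩ := hU g
    exact ⟨T, hT, orderOf_dvd_of_pow_eq_one h⟩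
  · rintro ⟨T, hT, hN⟩
    obtain ⟨g, hg⟩ := hL T hT
    exact CfsgLib.Spectrum.exists_orderOf_eq_of_dvd (orderOf_pos g) (hN.trans hg)

variable {K : Type u} [Field K] {W : Type v} [AddCommGroup W] [Module K W]

theorem gsum_fix {f : Module.End K W} {x : W} (hx : f x = x) (N : ℕ) : gsum f N x = N • x := by
  have hp : ∀ i : ℕ, (f ^ i) x = x := fun i => by
    induction i with
    | zero => rfl
    | succ i ih => rw [pow_succ', Module.End.mul_apply, ih, hx]
  simp [gsum, LinearMap.sum_apply, hp]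

theorem gsum_eq_zero_of_free {f : Module.End K W} {N : ℕ} (hf : f ^ N = 1) (h : ∀ x, f x = x → x = 0) :
    gsum f N = 0 := LinearMap.ext fun x => h _ (sub_eq_zero.1 (by
  have e := LinearMap.congr_fun (gsum_mul_sub f N) x
  rwa [hf, sub_self, Module.End.mul_apply, LinearMap.sub_apply, Module.End.one_apply] at e))

variable {p : ℕ} [hp : Fact p.Prime] [CharP K p]

include hp in
theorem gsum_char (f : Module.End K W) : gsum f p = (f - 1) ^ (p - 1) := by
  have h : (∑ i ∈ Finset.range p, (X : K[X]) ^ i) = (X - 1) ^ (p - 1) := by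
    refine mul_left_cancel₀ (X_sub_C_ne_zero (1 : K)) ?_
    rw [C_1, mul_geom_sum, ← pow_succ', Nat.sub_add_cancel hp.out.one_le, sub_pow_char, one_pow]
  simpa [gsum] using congrArg (aeval f) h

include hp in
theorem gsum_mul_char {f : Module.End K W} {N : ℕ} (hf : f ^ N = 1) : gsum f (p * N) = 0 := by
  rw [mul_comm, gsum_mul f hf, ← Nat.cast_smul_eq_nsmul K, CharP.cast_eq_zero, zero_smul]

variable {G : Type w} [Group G]

include hp in
theorem crit_char (ρ : G →* Module.End K W) {g : G} {N : ℕ} (hg : ρ g ^ N = 1)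
    (hord : ∀ j, g ^ j = 1 → N ∣ j) {x : W} (hx : gsum (ρ g) N x ≠ 0) :
    ∀ j, g ^ j = 1 → gsum (ρ g) j x = 0 → p * N ∣ j := fun j hj hs => by
  obtain ⟨c, rfl⟩ := hord j hj
  rw [gsum_mul _ hg, LinearMap.smul_apply, ← Nat.cast_smul_eq_nsmul K] at hs
  have hc : p ∣ c := (CharP.cast_eq_zero_iff K p c).1 ((smul_eq_zero.1 hs).resolve_right hx)
  rw [mul_comm p]
  exact mul_dvd_mul_left N hc

/-- The diagonal action on `W^k`. -/
def piRep (ρ : G →* Module.End K W) (k : ℕ) : G →* MulAut (Multiplicative (Fin k → W)) where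
  toFun g := AddEquiv.toMultiplicative
    { toFun := fun v i => ρ g (v i)
      invFun := fun v i => ρ g⁻¹ (v i)
      left_inv := fun v => funext fun i => by
        show ρ g⁻¹ (ρ g (v i)) = v i
        rw [← Module.End.mul_apply, ← map_mul, inv_mul_cancel, map_one, Module.End.one_apply]
      right_inv := fun v => funext fun i => by
        show ρ g (ρ g⁻¹ (v i)) = v i
        rw [← Module.End.mul_apply, ← map_mul, mul_inv_cancel, map_one, Module.End.one_apply]
      map_add' := fun v w => funext fun i => map_add _ _ _ }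
  map_one' := MulEquiv.ext fun v => by
    show Multiplicative.ofAdd (fun i => ρ 1 (Multiplicative.toAdd v i)) = v
    simp
  map_mul' g h := MulEquiv.ext fun v => by
    show Multiplicative.ofAdd (fun i => ρ (g * h) (Multiplicative.toAdd v i)) =
      Multiplicative.ofAdd (fun i => ρ g (ρ h (Multiplicative.toAdd v i)))
    simp [map_mul]

theorem piRep_apply (ρ : G →* Module.End K W) (k : ℕ) (g : G) (v : Fin k → W) :
    piRep ρ k g (Multiplicative.ofAdd v) = Multiplicative.ofAdd fun i => ρ g (v i) := rfl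

theorem semi_pow (ρ : G →* Module.End K W) {k : ℕ} (v : Fin k → W) (g : G) :
    ∀ j : ℕ, (⟨Multiplicative.ofAdd v, g⟩ : Multiplicative (Fin k → W) ⋊[piRep ρ k] G) ^ j =
      ⟨Multiplicative.ofAdd fun i => gsum (ρ g) j (v i), g ^ j⟩
  | 0 => by
    rw [pow_zero, pow_zero]
    refine SemidirectProduct.ext ?_ rfl
    simp [gsum]
    rfl
  | j + 1 => by
    rw [pow_succ, semi_pow ρ v g j, pow_succ g]
    refine SemidirectProduct.ext ?_ rfl
    simp only [SemidirectProduct.mul_left, piRep_apply, ← ofAdd_add]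
    refine congrArg Multiplicative.ofAdd (funext fun i => ?_)
    simp only [Pi.add_apply, gsum, Finset.sum_range_succ, LinearMap.add_apply, map_pow]

/-- Groups of unbounded order with the given element orders. -/
theorem unbounded_of [Finite G] [Finite W] [Nontrivial W] {q r : ℕ} (ρ : G →* Module.End K W)
    (hU : ∀ g : G, ∃ T ∈ nums q r, g ^ T = 1 ∧ gsum (ρ g) T = 0)
    (hL : ∀ T ∈ nums q r, ∃ (g : G) (x : W), ∀ j, g ^ j = 1 → gsum (ρ g) j x = 0 → T ∣ j) (M : ℕ) :
    ∃ (H : Type) (_ : Group H) (_ : Fintype H), M < Fintype.card H ∧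
      Set.range (orderOf : H → ℕ) = spec q r := by
  classical
  set S := Multiplicative (Fin (M + 1) → W) ⋊[piRep ρ (M + 1)] G
  haveI : Finite S := Finite.of_equiv _ SemidirectProduct.equivProd.symm
  obtain ⟨H, hH, hHf, ⟨e⟩⟩ := CfsgLib.PrimeGraph.exists_type0_copy S
  refine ⟨H, hH, hHf, ?_, ?_⟩
  · rw [← Nat.card_eq_fintype_card, Nat.card_congr e.toEquiv, SemidirectProduct.card,
      Nat.card_congr (Multiplicative.toAdd (α := Fin (M + 1) → W)), Nat.card_fun, Nat.card_fin]
    refine lt_of_lt_of_le ((Nat.lt_succ_self M).trans (Nat.lt_two_pow_self (n := M + 1))) ?_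
    refine le_trans (Nat.pow_le_pow_left ?_ (M + 1)) (Nat.le_mul_of_pos_right _ Nat.card_pos)
    exact Finite.one_lt_card
  · rw [← range_eq_spec (G := S) (q := q) (p := r) (fun x => ?_) fun T hT => ?_]
    · exact CfsgLib.Spectrum.range_orderOf_congr e
    · obtain ⟨v, g⟩ := x
      obtain ⟨T, hT, h1, h2⟩ := hU g
      refine ⟨T, hT, ?_⟩
      rw [show v = Multiplicative.ofAdd (Multiplicative.toAdd v) from rfl, semi_pow]
      refine SemidirectProduct.ext ?_ h1
      simp only [h2, LinearMap.zero_apply]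
      rfl
    · obtain ⟨g, x, hgx⟩ := hL T hT
      let y : S := ⟨Multiplicative.ofAdd fun _ => x, g⟩
      refine ⟨y, ?_⟩
      have h := pow_orderOf_eq_one y
      rw [semi_pow] at h
      exact hgx _ (congrArg (fun z : S => z.right) h)
        (congrFun (congrArg (fun z : S => Multiplicative.toAdd z.left) h) 0)

end CfsgLib.SpecSpFour
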