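import Cfsg.Agent.SpecSpFour.SL2

/-!
`X ↦ A X (Aᵗ)^(q)` on two-by-two matrices over the field of `q²` elements, with the transpose: a group
whose extensions by copies of this module have the spectrum of `PSp_4(q)` for `q` even or `p ≥ 5`.
-/

set_option autoImplicit false
set_option linter.style.haveILetI false

namespace CfsgLib.SpecSpFour

open Matrix CfsgLib.SpecSpEight

universe u

variable {K : Type u} [Field K]

local notation "M2" => Matrix (Fin 2) (Fin 2) K
local notation "SL" => Matrix.SpecialLinearGroup (Fin 2) K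

/-- `X ↦ A X (A^τ)ᵗ`. -/
def herm (τ : K →+* K) : SL →* Module.End K M2 where
  toFun A :=
    { toFun := fun X => A.1 * X * (A.1.map τ)ᵀ
      map_add' := fun X Y => by rw [mul_add, add_mul]
      map_smul' := fun c X => by rw [Matrix.mul_smul, Matrix.smul_mul, RingHom.id_apply] }
  map_one' := LinearMap.ext fun X => by simp
  map_mul' A B := LinearMap.ext fun X => by
    simp [Matrix.map_mul, Matrix.transpose_mul, mul_assoc]

theorem herm_apply (τ : K →+* K) (A : SL) (X : M2) : herm τ A X = A.1 * X * (A.1.map τ)ᵀ := rfl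

/-- Transposition. -/
def swp : (Module.End K M2)ˣ where
  val := (Matrix.transposeLinearEquiv (Fin 2) (Fin 2) K K).toLinearMap
  inv := (Matrix.transposeLinearEquiv (Fin 2) (Fin 2) K K).toLinearMap
  val_inv := LinearMap.ext fun _ => Matrix.transpose_transpose _
  inv_val := LinearMap.ext fun _ => Matrix.transpose_transpose _

theorem swp_apply (X : M2) : (swp : (Module.End K M2)ˣ).1 X = Xᵀ := rfl

/-- The conjugate of a matrix of determinant one. -/
def conjSL (τ : K →+* K) (A : SL) : SL := ⟨A.1.map τ, by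
  rw [← RingHom.mapMatrix_apply, ← RingHom.map_det, A.2, map_one]⟩

variable {τ : K →+* K} (hτ : ∀ x, τ (τ x) = x)

/-- `herm` as units. -/
def hermU (τ : K →+* K) : SL →* (Module.End K M2)ˣ := (herm τ).toHomUnits

theorem hermU_apply (A : SL) (X : M2) : (hermU τ A).1 X = A.1 * X * (A.1.map τ)ᵀ := rfl

include hτ in
theorem swp_mul (A : SL) : swp * hermU τ A = hermU τ (conjSL τ A) * swp := by
  refine Units.ext (LinearMap.ext fun X => ?_)
  show (A.1 * X * (A.1.map τ)ᵀ)ᵀ = A.1.map τ * Xᵀ * ((A.1.map τ).map τ)ᵀ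
  rw [show (A.1.map τ).map τ = A.1 by ext i j; simp [hτ], Matrix.transpose_mul, Matrix.transpose_mul,
    Matrix.transpose_transpose, mul_assoc]

theorem swp_sq : (swp : (Module.End K M2)ˣ) * swp = 1 :=
  Units.ext (LinearMap.ext fun _ => Matrix.transpose_transpose _)

/-- The group: `herm` and, if `o`, also its coset by transposition. -/
def grp (o : Prop) : Subgroup (Module.End K M2)ˣ where
  carrier := {g | ∃ A : SL, g = hermU τ A ∨ (o ∧ g = hermU τ A * swp)}
  one_mem' := ⟨1, Or.inl (map_one _).symm⟩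
  mul_mem' := by
    rintro g h ⟨A, rfl | ⟨ho, rfl⟩⟩ ⟨B, rfl | ⟨ho', rfl⟩⟩
    · exact ⟨A * B, Or.inl (map_mul _ A B).symm⟩
    · exact ⟨A * B, Or.inr ⟨ho', by rw [← mul_assoc, ← map_mul]⟩⟩
    · exact ⟨A * conjSL τ B, Or.inr ⟨ho, by rw [mul_assoc, swp_mul hτ, ← mul_assoc, ← map_mul]⟩⟩
    · refine ⟨A * conjSL τ B, Or.inl ?_⟩
      rw [mul_assoc, ← mul_assoc swp, swp_mul hτ, mul_assoc, swp_sq, mul_one, ← map_mul]
  inv_mem' := by
    rintro g ⟨A, rfl | ⟨ho, rfl⟩⟩
    · exact ⟨A⁻¹, Or.inl (map_inv _ A).symm⟩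
    · refine ⟨conjSL τ A⁻¹, Or.inr ⟨ho, ?_⟩⟩
      rw [_root_.mul_inv_rev, inv_eq_of_mul_eq_one_right swp_sq, ← map_inv, swp_mul hτ]

theorem eq_pm_of_herm {A : SL} (h : hermU τ A = 1) : A.1 = 1 ∨ A.1 = -1 := by
  have hX : ∀ X : M2, A.1 * X * (A.1.map τ)ᵀ = X := fun X =>
    congrArg (fun g : (Module.End K M2)ˣ => g.1 X) h
  have h1 : (A.1.map τ)ᵀ * A.1 = 1 := mul_eq_one_comm.1 (by simpa using hX 1)
  have hc : ∀ X : M2, A.1 * X = X * A.1 := fun X => by
    calc A.1 * X = A.1 * X * ((A.1.map τ)ᵀ * A.1) := by rw [h1, mul_one]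
      _ = X * A.1 := by rw [← mul_assoc, hX]
  have e1 := congrFun (congrFun (hc !![0, 1; 0, 0]) 0) 1
  have e2 := congrFun (congrFun (hc !![0, 1; 0, 0]) 0) 0
  have e3 := congrFun (congrFun (hc !![0, 0; 1, 0]) 1) 1
  simp [Matrix.mul_apply, Fin.sum_univ_two] at e1 e2 e3
  have hd := A.2
  rw [Matrix.det_fin_two, e1] at hd
  have h11 : A.1 1 1 * A.1 1 1 = 1 := by
    linear_combination hd - A.1 0 1 * e2
  have e10 : A.1 1 0 = 0 := by
    have := congrFun (congrFun (hc !![0, 1; 0, 0]) 0) 0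
    simpa [Matrix.mul_apply, Fin.sum_univ_two] using this.symm
  have e01 : A.1 0 1 = 0 := by
    have := congrFun (congrFun (hc !![0, 0; 1, 0]) 1) 1
    simpa [Matrix.mul_apply, Fin.sum_univ_two] using this.symm
  have e00 : A.1 0 0 = A.1 1 1 := e1
  rcases mul_self_eq_one_iff.1 h11 with e | e
  · left; ext i j; fin_cases i <;> fin_cases j <;> simp [e10, e01, e00, e]
  · right; ext i j; fin_cases i <;> fin_cases j <;> simp [e10, e01, e00, e]

theorem not_herm_swp {A : SL} : hermU τ A * swp ≠ 1 := by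
  intro h
  have hX : ∀ X : M2, A.1 * Xᵀ * (A.1.map τ)ᵀ = X := fun X =>
    congrArg (fun g : (Module.End K M2)ˣ => g.1 X) h
  have h1 : (A.1.map τ)ᵀ * A.1 = 1 := mul_eq_one_comm.1 (by simpa using hX 1)
  have hswap : ∀ X Y : M2, X * Y = Y * X := fun X Y => by
    calc X * Y = A.1 * Xᵀ * ((A.1.map τ)ᵀ * A.1) * Yᵀ * (A.1.map τ)ᵀ := by
          conv_lhs => rw [← hX X, ← hX Y]
          simp only [mul_assoc]
      _ = A.1 * (Y * X)ᵀ * (A.1.map τ)ᵀ := by rw [h1, mul_one, Matrix.transpose_mul]; simp only [mul_assoc]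
      _ = Y * X := hX _
  have e := congrFun (congrFun (hswap !![0, 1; 0, 0] !![0, 0; 1, 0]) 0) 0
  simp [Matrix.mul_apply, Fin.sum_univ_two] at e

theorem fixed_trace {A : SL} {X : M2} (hX0 : X ≠ 0) (hX : A.1 * X * (A.1.map τ)ᵀ = X) :
    A.1.trace = τ A.1.trace := by
  set B := (A.1.map τ)ᵀ with hB
  have hBd : B.det = 1 := by rw [hB, Matrix.det_transpose]; exact (conjSL τ A).2
  have hBt : B.trace = τ A.1.trace := by rw [hB, Matrix.trace_transpose]; simp [Matrix.trace_fin_two]
  have eA := ch A.2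
  have eB := ch hBd
  rw [hBt] at eB
  set t := A.1.trace
  set t' := τ A.1.trace
  let C : M2 := t' • 1 - B
  have hBC : B * C = 1 := by
    rw [show B * C = t' • B - B * B by rw [mul_sub, Matrix.mul_smul, mul_one], ← eB]; abel
  have hAX : A.1 * X = X * C := by
    calc A.1 * X = A.1 * X * (B * C) := by rw [hBC, mul_one]
      _ = X * C := by rw [← mul_assoc, hX]
  have hCC : C * C + 1 = t' • C := by
    have e : B * B = t' • B - 1 := eq_sub_of_add_eq eB
    show (t' • (1 : M2) - B) * (t' • (1 : M2) - B) + 1 = t' • (t' • (1 : M2) - B)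
    rw [show (t' • (1 : M2) - B) * (t' • (1 : M2) - B) = (t' * t') • (1 : M2) - (2 * t') • B + B * B by
      rw [sub_mul, mul_sub, mul_sub, smul_mul_smul_comm, Matrix.smul_mul, Matrix.mul_smul, one_mul, mul_one, one_mul]
      module, e]
    module
  have h2 : t • (A.1 * X) = t' • (A.1 * X) := by
    rw [← Matrix.smul_mul t, ← eA, hAX, ← Matrix.mul_smul, ← hCC, add_mul, mul_add, one_mul, mul_one, mul_assoc,
      hAX, ← mul_assoc, hAX, mul_assoc]
  rw [← sub_eq_zero, ← sub_smul] at h2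
  refine sub_eq_zero.1 ((smul_eq_zero.1 h2).resolve_right fun e => hX0 ?_)
  have hu : IsUnit A.1 := (Matrix.isUnit_iff_isUnit_det _).2 (by rw [A.2]; exact isUnit_one)
  exact hu.mul_right_eq_zero.1 e

theorem herm_sub_one_cube {A : SL} {ε : K} (hε : ε = 1 ∨ ε = -1) {N : M2} (hN : N * N = 0)
    (hA : A.1 = ε • (1 + N)) : ((herm τ A) - 1) ^ 3 = 0 := by
  have hετ : τ ε = ε := by rcases hε with rfl | rfl <;> simp
  have hε2 : ε * ε = 1 := by rcases hε with rfl | rfl <;> ring
  set M := (N.map τ)ᵀ with hMdef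
  have hM : M * M = 0 := by
    rw [hMdef, ← Matrix.transpose_mul, ← Matrix.map_mul, hN, Matrix.map_zero _ (map_zero τ), Matrix.transpose_zero]
  have hAτ : (A.1.map τ)ᵀ = ε • (1 + M) := by
    rw [hA, hMdef]
    ext i j
    by_cases hij : i = j
    · subst hij; simp [map_add, hετ, mul_add]
    · simp [Matrix.one_apply_ne hij, Matrix.one_apply_ne (Ne.symm hij), map_add, hετ, mul_add]
  have hD : ∀ X : M2, (herm τ A - 1) X = N * X + X * M + N * (X * M) := fun X => by
    rw [LinearMap.sub_apply, Module.End.one_apply, herm_apply, hAτ, hA, Matrix.smul_mul, Matrix.smul_mul,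
      Matrix.mul_smul, smul_smul, hε2, one_smul, add_mul, one_mul, mul_add, mul_one, add_mul, mul_assoc]
    abel
  have hN' : ∀ Y : M2, N * (N * Y) = 0 := fun Y => by rw [← mul_assoc, hN, zero_mul]
  refine LinearMap.ext fun X => ?_
  rw [pow_succ', pow_two, Module.End.mul_apply, Module.End.mul_apply, hD X, hD, hD]
  simp [mul_add, add_mul, mul_assoc, hN', hM]

omit hτ in
theorem gsum_two_mul {V : Type*} [AddCommGroup V] [Module K V] (f : Module.End K V) :
    ∀ n : ℕ, gsum f (2 * n) = gsum (f * f) n * (1 + f)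
  | 0 => by simp [gsum]
  | n + 1 => by
    have e1 : gsum f (2 * (n + 1)) = gsum f (2 * n) + f ^ (2 * n) + f ^ (2 * n + 1) := by
      rw [gsum, gsum, show 2 * (n + 1) = 2 * n + 1 + 1 by ring, Finset.sum_range_succ, Finset.sum_range_succ]
    have e2 : gsum (f * f) (n + 1) = gsum (f * f) n + f ^ (2 * n) := by
      rw [gsum, gsum, Finset.sum_range_succ, pow_mul, pow_two]
    rw [e1, e2, gsum_two_mul f n, add_mul, mul_add (f ^ (2 * n)), mul_one, pow_succ, add_assoc]

variable [Finite K] {p : ℕ} [hp : Fact p.Prime] [CharP K p] {f : ℕ}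
  (hτq : ∀ x, τ x = x ^ p ^ f) (hK : Nat.card K = p ^ (2 * f))

omit [Finite K] in
include hp in
theorem clog_four : (5 ≤ p → p ^ Nat.clog p 4 = p) ∧ (p = 2 → p ^ Nat.clog p 4 = 2 * 2) := by
  refine ⟨fun h => ?_, fun h => ?_⟩
  · rw [show Nat.clog p 4 = 1 from le_antisymm (Nat.clog_le_of_le_pow (by rw [pow_one]; omega))
      (Nat.clog_pos (by omega) (by norm_num)), pow_one]
  · subst h
    rw [show (4 : ℕ) = 2 ^ 2 from rfl, Nat.clog_pow _ _ one_lt_two]
    norm_num

include hp hτq hK in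
theorem herm_inner_num (hp' : p = 2 ∨ 5 ≤ p) (A : SL) :
    ∃ T ∈ nums (p ^ f) p, hermU τ A ^ T = 1 ∧ gsum (herm τ A) T = 0 := by
  haveI := Fintype.ofFinite K
  have hval : ∀ T, hermU τ A ^ T = 1 → herm τ A ^ T = 1 := fun T e => by
    have := congrArg Units.val e
    rwa [Units.val_pow_eq_pow_val, Units.val_one] at this
  have hpm : ∀ T, A.1 ^ T = 1 ∨ A.1 ^ T = -1 → hermU τ A ^ T = 1 := fun T e => by
    rw [← map_pow]
    refine Units.ext (LinearMap.ext fun X => ?_)
    rw [hermU_apply, show (A ^ T).1 = A.1 ^ T from rfl]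
    rcases e with e | e <;> rw [e]
    · simp
    · rw [show (-1 : M2).map τ = -1 by ext i j; by_cases h : i = j <;> simp [h, Matrix.one_apply_ne]]
      simp
  by_cases h4 : A.1.trace ^ 2 = 4
  · obtain ⟨ε, hε, N, hN, hA, hAp⟩ := pow_unip (p := p) A.2 h4
    have hg : hermU τ A ^ p = 1 := hpm p (by
      rcases hε with rfl | rfl
      · left; rw [hAp, one_pow, one_smul]
      · rcases neg_one_pow_eq_or K p with e | e
        · left; rw [hAp, e, one_smul]
        · right; rw [hAp, e, neg_one_smul])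
    refine ⟨p ^ Nat.clog p 4, by simp [nums], ?_, ?_⟩
    · obtain ⟨c, hc⟩ : p ∣ p ^ Nat.clog p 4 := dvd_pow_self p (Nat.clog_pos hp.out.one_lt (by norm_num)).ne'
      rw [hc, pow_mul, hg, one_pow]
    · rcases hp' with h | h
      · rw [(clog_four (p := p)).2 h]
        subst h
        exact gsum_mul_char (hval _ hg)
      · rw [(clog_four (p := p)).1 h, gsum_char]
        exact pow_eq_zero_of_le (by omega) (herm_sub_one_cube hε hN hA)
  · by_cases ht : τ A.1.trace = A.1.trace
    · have h := pow_frob_cases (p := p) A.2 h4 (n := f) (by rw [← hτq, ht])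
      rcases h with e | e
      · have hg := hpm _ (Or.inl e)
        exact ⟨p * (p ^ f - 1), by simp [nums], by rw [mul_comm, pow_mul, hg, one_pow], gsum_mul_char (hval _ hg)⟩
      · have hg := hpm _ (Or.inl e)
        exact ⟨p * (p ^ f + 1), by simp [nums], by rw [mul_comm, pow_mul, hg, one_pow], gsum_mul_char (hval _ hg)⟩
    · have hfree : ∀ X, herm τ A X = X → X = 0 := fun X hX => by
        by_contra hX0
        exact ht (fixed_trace hX0 hX).symm
      have hn : 1 ≤ 2 * f := by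
        rcases Nat.eq_zero_or_pos f with rfl | h
        · exfalso
          have : 1 < Nat.card K := Finite.one_lt_card
          rw [hK] at this
          simp at this
        · omega
      have htK : A.1.trace ^ p ^ (2 * f) = A.1.trace := by
        rw [← hK, Nat.card_eq_fintype_card, FiniteField.pow_card]
      have key : ∀ T, (A.1 ^ T = 1 ∨ A.1 ^ T = -1) → hermU τ A ^ T = 1 ∧ gsum (herm τ A) T = 0 := fun T e =>
        ⟨hpm T e, gsum_eq_zero_of_free (hval _ (hpm T e)) hfree⟩
      have hsq : (p ^ f) ^ 2 = p ^ (2 * f) := by rw [← pow_mul, mul_comm]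
      rcases pow_num A.2 h4 hn htK with e | e | e | e
      · exact ⟨_, by simp [nums, hsq], key _ (Or.inl e)⟩
      · exact ⟨_, by simp [nums, hsq], key _ (Or.inr e)⟩
      · exact ⟨_, by simp [nums, hsq], key _ (Or.inl e)⟩
      · exact ⟨_, by simp [nums, hsq], key _ (Or.inr e)⟩

include hτ hp hτq in
theorem herm_outer_num (hp5 : 5 ≤ p) (A : SL) :
    ∃ T ∈ nums (p ^ f) p, (hermU τ A * swp) ^ T = 1 ∧ gsum ((hermU τ A * swp).1) T = 0 := by
  set g := hermU τ A * swp with hg
  set B := A * conjSL τ A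
  have hgg : g * g = hermU τ B := by
    rw [hg, mul_assoc, ← mul_assoc swp, swp_mul hτ, mul_assoc, swp_sq, mul_one, ← map_mul]
  have hval : ∀ T, g ^ T = 1 → g.1 ^ T = 1 := fun T e => by
    rw [← Units.val_pow_eq_pow_val, e, Units.val_one]
  have htB : B.1.trace ^ p ^ f = B.1.trace := by
    rw [← hτq, show B.1 = A.1 * A.1.map τ from rfl]
    simp [Matrix.trace_fin_two, Matrix.mul_apply, Fin.sum_univ_two, hτ]
    ring
  have h2 : (2 : K) ≠ 0 := two_ne_zero_of_char (p := p) (by omega)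
  have hodd : Odd (p ^ f) := (hp.out.odd_of_ne_two (by omega)).pow
  have hpm : ∀ T, B.1 ^ T = 1 ∨ B.1 ^ T = -1 → g ^ (2 * T) = 1 := fun T e => by
    rw [pow_mul, pow_two, hgg, ← map_pow]
    refine Units.ext (LinearMap.ext fun X => ?_)
    rw [hermU_apply, show (B ^ T).1 = B.1 ^ T from rfl]
    rcases e with e | e <;> rw [e]
    · simp
    · rw [show (-1 : M2).map τ = -1 by ext i j; by_cases h : i = j <;> simp [h, Matrix.one_apply_ne]]
      simp
  by_cases h4 : B.1.trace ^ 2 = 4
  · obtain ⟨ε, hε, N, hN, hB, hBp⟩ := pow_unip (p := p) B.2 h4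
    have h2p : g ^ (2 * p) = 1 := hpm p (by
      rcases hε with rfl | rfl
      · left; rw [hBp, one_pow, one_smul]
      · right; rw [hBp, (hp.out.odd_of_ne_two (by omega)).neg_one_pow, neg_one_smul])
    obtain ⟨c, hc⟩ := (Nat.Odd.sub_odd hodd odd_one).two_dvd
    refine ⟨p * (p ^ f - 1), by simp [nums], ?_, ?_⟩
    · rw [hc, show p * (2 * c) = 2 * p * c by ring, pow_mul, h2p, one_pow]
    · rw [hc, show p * (2 * c) = 2 * p * c by ring, gsum_mul _ (hval _ h2p), gsum_two_mul,
        show g.1 * g.1 = herm τ B from congrArg Units.val hgg, gsum_char,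
        pow_eq_zero_of_le (by omega) (herm_sub_one_cube hε hN hB), zero_mul, smul_zero]
  · rcases pow_frob_cases (p := p) B.2 h4 (n := f) htB with e | e
    · obtain ⟨c, hc⟩ := (Nat.Odd.sub_odd hodd odd_one).two_dvd
      rw [hc] at e
      have hg1 := hpm c (pow_half B.2 h2 e)
      refine ⟨p * (p ^ f - 1), by simp [nums], ?_, ?_⟩
      · rw [hc, mul_comm, pow_mul, hg1, one_pow]
      · rw [hc]; exact gsum_mul_char (hval _ hg1)
    · obtain ⟨c, hc⟩ := hodd.add_one.two_dvd
      rw [hc] at e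
      have hg1 := hpm c (pow_half B.2 h2 e)
      refine ⟨p * (p ^ f + 1), by simp [nums], ?_, ?_⟩
      · rw [hc, mul_comm, pow_mul, hg1, one_pow]
      · rw [hc]; exact gsum_mul_char (hval _ hg1)

omit [Finite K] in
theorem transpose_two (x y z w : K) : (!![x, y; z, w] : M2)ᵀ = !![x, z; y, w] := by
  ext i j; fin_cases i <;> fin_cases j <;> rfl

/-- The diagonal matrix `(a, 1/a)`. -/
def dg (a : Kˣ) : SL := ⟨!![(a : K), 0; 0, ((a⁻¹ : Kˣ) : K)], by simp [Matrix.det_fin_two]⟩

/-- The diagonal matrices as a homomorphism. -/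
def dgHom : Kˣ →* SL where
  toFun := dg
  map_one' := Subtype.ext (by ext i j; fin_cases i <;> fin_cases j <;> simp [dg])
  map_mul' a b := Subtype.ext (by
    show _ = (dg a).1 * (dg b).1
    ext i j; fin_cases i <;> fin_cases j <;> simp [dg, Matrix.mul_apply, Fin.sum_univ_two, mul_comm])

theorem pow_two_mul_of_dg {a : Kˣ} {j : ℕ} (h : hermU τ (dg a) ^ j = 1) : a ^ (2 * j) = 1 := by
  rw [← map_pow, show dg a ^ j = dg (a ^ j) from (map_pow dgHom a j).symm] at h
  have key : ((a ^ j : Kˣ) : K) = 1 ∨ ((a ^ j : Kˣ) : K) = -1 := by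
    rcases eq_pm_of_herm h with e | e <;> [left; right] <;>
      simpa [dg] using congrFun (congrFun e 0) 0
  refine Units.ext ?_
  rw [mul_comm, pow_mul, Units.val_pow_eq_pow_val, Units.val_one]
  rcases key with e | e <;> rw [e] <;> ring

omit [Finite K] in
theorem div_two_dvd {n j : ℕ} (h : 2 ∣ n) (h' : n ∣ 2 * j) : n / 2 ∣ j := by
  obtain ⟨c, rfl⟩ := h
  rw [Nat.mul_div_cancel_left _ two_pos]
  exact Nat.dvd_of_mul_dvd_mul_left two_pos h'

include hp hτq hK in
theorem exists_units :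
    ∃ a : Kˣ, orderOf a = (p ^ f - 1) * (p ^ f + 1) ∧ ∀ b : Kˣ, τ (b : K) = ((b ^ p ^ f : Kˣ) : K) := by
  haveI := Fintype.ofFinite K
  obtain ⟨a, ha⟩ := IsCyclic.exists_generator (α := Kˣ)
  refine ⟨a, ?_, fun b => by rw [hτq, Units.val_pow_eq_pow_val]⟩
  rw [orderOf_eq_card_of_forall_mem_zpowers ha, Nat.card_units, hK, mul_comm 2 f, pow_mul]
  simpa [mul_comm] using Nat.sq_sub_sq (p ^ f) 1

include hτ hp hτq hK in
/-- Unboundedly many groups with the spectrum of `PSp_4(q)`, `q` even or `p ≥ 5`. -/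
theorem herm_unbounded (hp' : p = 2 ∨ 5 ≤ p) (M : ℕ) :
    ∃ (H : Type) (_ : Group H) (_ : Fintype H), M < Fintype.card H ∧
      Set.range (orderOf : H → ℕ) = spec (p ^ f) p := by
  classical
  haveI := Fintype.ofFinite K
  haveI : Finite (Module.End K M2) := Finite.of_injective (fun g => (g : M2 → M2)) DFunLike.coe_injective
  haveI : Finite (Module.End K M2)ˣ := Finite.of_injective Units.val Units.val_injective
  set q := p ^ f with hq
  set G := grp (τ := τ) hτ (5 ≤ p)
  obtain ⟨a, ha, hτu⟩ := exists_units (p := p) hτq hK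
  rw [← hq] at ha hτu
  have hq2 : 2 ≤ q := by
    have h1 : 1 < Nat.card K := Finite.one_lt_card
    rw [hK] at h1
    have hf : f ≠ 0 := fun e => by simp [e] at h1
    exact hp.out.two_le.trans (Nat.le_self_pow hf p)
  have hqcases : (p = 2 ∧ Even q ∧ dd p = 1) ∨ (5 ≤ p ∧ Odd q ∧ dd p = 2) := by
    rcases hp' with h | h
    · refine Or.inl ⟨h, ?_, if_pos h⟩
      subst h
      refine even_two.pow_of_ne_zero fun e => ?_
      simp [hq, e] at hq2
    · exact Or.inr ⟨h, (hp.out.odd_of_ne_two (by omega)).pow, if_neg (by omega)⟩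
  have hcop : ∀ {N j : ℕ}, p = 2 → Odd N → N ∣ 2 * j → N ∣ j := fun _ hN h =>
    (Nat.coprime_two_right.2 hN).dvd_of_dvd_mul_left h
  let ρ : G →* Module.End K M2 := (Units.coeHom _).comp G.subtype
  refine unbounded_of ρ (fun g => ?_) (fun T hT => ?_) M
  · obtain ⟨A, h | ⟨ho, h⟩⟩ := g.2
    · obtain ⟨T, hT, h1, h2⟩ := herm_inner_num (p := p) hτq hK hp' A
      refine ⟨T, hT, Subtype.ext ?_, ?_⟩
      · rw [SubmonoidClass.coe_pow, h]; exact h1
      · show gsum (g.1.1) T = 0
        rw [h]; exact h2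
    · obtain ⟨T, hT, h1, h2⟩ := herm_outer_num (p := p) hτ hτq ho A
      refine ⟨T, hT, Subtype.ext ?_, ?_⟩
      · rw [SubmonoidClass.coe_pow, h]; exact h1
      · show gsum (g.1.1) T = 0
        rw [h]; exact h2
  -- inner and outer elements of the group
  let inn : SL → G := fun A => ⟨hermU τ A, A, Or.inl rfl⟩
  have inn_pow : ∀ {A : SL} {j : ℕ}, inn A ^ j = 1 → hermU τ A ^ j = 1 := fun {A j} h =>
    congrArg Subtype.val h
  have ρinn : ∀ (A : SL) (X : M2), ρ (inn A) X = A.1 * X * (A.1.map τ)ᵀ := fun A X => rfl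
  -- a diagonal element `dg b` with a fixed vector
  have inner_char : ∀ (b : Kˣ) (X : M2), X ≠ 0 → ρ (inn (dg b)) X = X → p = 2 →
      Odd (orderOf b) → ∃ (g : G) (x : M2), ∀ j, g ^ j = 1 → gsum (ρ g) j x = 0 → p * orderOf b ∣ j := by
    intro b X hX hfix hp2 hodd
    refine ⟨inn (dg b), X, crit_char (p := p) ρ ?_ (fun j hj => ?_) ?_⟩
    · show (hermU τ (dg b)).1 ^ orderOf b = 1
      rw [← Units.val_pow_eq_pow_val, ← map_pow, show dg b ^ orderOf b = dg (b ^ orderOf b) from
        (map_pow dgHom b _).symm, pow_orderOf_eq_one, show dg (1 : Kˣ) = 1 from map_one dgHom, map_one, Units.val_one]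
    · exact hcop hp2 hodd (orderOf_dvd_of_pow_eq_one (pow_two_mul_of_dg (inn_pow hj)))
    · rw [gsum_fix hfix, ← Nat.cast_smul_eq_nsmul K, Ne, smul_eq_zero, not_or]
      refine ⟨fun e => ?_, hX⟩
      rw [CharP.cast_eq_zero_iff K p, hp2, ← even_iff_two_dvd] at e
      exact (Nat.not_even_iff_odd.2 hodd) e
  -- an outer element
  have outer_char : ∀ (A : SL) (b : Kˣ) (N : ℕ) (X : M2), 5 ≤ p → (∀ j, b ^ j = 1 → N ∣ j) → b ^ N = 1 →
      Even N → (A * conjSL τ A).1 = (dg b).1 ∨ (A * conjSL τ A).1 = -(dg b).1 → ¬ p ∣ N → X ≠ 0 →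
      (hermU τ A * swp).1 X = X →
      ∃ (g : G) (x : M2), ∀ j, g ^ j = 1 → gsum (ρ g) j x = 0 → p * N ∣ j := by
    intro A b N X h5 hN hbN hev hB hpN hX hfix
    set g : G := ⟨hermU τ A * swp, A, Or.inr ⟨h5, rfl⟩⟩
    have hB' : ∀ i, hermU τ ((A * conjSL τ A) ^ i) = hermU τ (dg b) ^ i := fun i => by
      rw [map_pow]
      congr 1
      rcases hB with e | e
      · exact congrArg _ (Subtype.ext e)
      · refine Units.ext (LinearMap.ext fun Y => ?_)
        rw [hermU_apply, hermU_apply, e,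
          show (-(dg b).1).map τ = -((dg b).1.map τ) by ext i j; simp]
        simp
    have hgg : (hermU τ A * swp) * (hermU τ A * swp) = hermU τ (A * conjSL τ A) := by
      rw [mul_assoc, ← mul_assoc swp, swp_mul hτ, mul_assoc, swp_sq, mul_one, ← map_mul]
    have hsplit : ∀ i, (hermU τ A * swp) ^ (2 * i) = hermU τ (dg b) ^ i := fun i => by
      rw [pow_mul, pow_two, hgg, ← map_pow, hB']
    obtain ⟨n, hn⟩ := hev.two_dvd
    refine ⟨g, X, crit_char (p := p) ρ ?_ (fun j hj => ?_) ?_⟩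
    · show (hermU τ A * swp).1 ^ N = 1
      rw [← Units.val_pow_eq_pow_val, hn, hsplit, ← map_pow, show dg b ^ n = dg (b ^ n) from (map_pow dgHom b _).symm]
      have hsq : ((b ^ n : Kˣ) : K) * ((b ^ n : Kˣ) : K) = 1 := by
        rw [← Units.val_mul, ← pow_add, ← two_mul, ← hn, hbN, Units.val_one]
      refine LinearMap.ext fun Y => ?_
      rw [hermU_apply, Module.End.one_apply]
      rcases mul_self_eq_one_iff.1 hsq with e | e
      · rw [show b ^ n = 1 from Units.ext e, show dg (1 : Kˣ) = 1 from map_one dgHom]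
        simp
      · rw [show (dg (b ^ n)).1 = -1 by
            ext i j; fin_cases i <;> fin_cases j <;> simp [dg, e, show (b ^ n)⁻¹ = b ^ n from
              inv_eq_of_mul_eq_one_right (Units.ext hsq)],
          show (-1 : M2).map τ = -1 by ext i j; by_cases h : i = j <;> simp [h, Matrix.one_apply_ne]]
        simp
    · have hj' : (hermU τ A * swp) ^ j = 1 := congrArg Subtype.val hj
      rcases Nat.even_or_odd' j with ⟨i, rfl | rfl⟩
      · rw [hsplit] at hj'
        exact hN _ (pow_two_mul_of_dg hj')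
      · rw [pow_succ, hsplit, ← map_pow, ← mul_assoc, ← map_mul] at hj'
        exact absurd hj' not_herm_swp
    · rw [gsum_fix (show ρ g X = X from hfix), ← Nat.cast_smul_eq_nsmul K, Ne, smul_eq_zero, not_or]
      exact ⟨fun e => hpN ((CharP.cast_eq_zero_iff K p N).1 e), hX⟩
  have hpq : p ∣ q := dvd_pow_self p fun e => by simp [hq, e] at hq2
  have hnp1 : ¬ p ∣ q + 1 := fun h => hp.out.not_dvd_one ((Nat.dvd_add_right hpq).1 h)
  have hnm1 : ¬ p ∣ q - 1 := fun h => hp.out.not_dvd_one (by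
    have := Nat.dvd_sub hpq h
    rwa [Nat.sub_sub_self (by omega)] at this)
  have ho1 : orderOf (a ^ (q + 1)) = q - 1 := by
    rw [orderOf_pow' _ (by omega), ha, Nat.gcd_mul_left_left, Nat.mul_div_cancel _ (by omega)]
  have ho2 : orderOf (a ^ (q - 1)) = q + 1 := by
    rw [orderOf_pow' _ (by omega), ha, Nat.gcd_mul_right_left, Nat.mul_div_cancel_left _ (by omega)]
  simp only [nums, List.mem_cons, List.not_mem_nil, or_false] at hT
  rcases hT with rfl | rfl | rfl | rfl | rfl
  · obtain ⟨z, hz⟩ := exists_minus_sl (K := K) (p := p)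
    refine ⟨inn z, 0, fun j hj _ => ?_⟩
    have h1 : z ^ (2 * j) = 1 := by
      have h := inn_pow hj
      rw [← map_pow] at h
      refine Subtype.ext ?_
      rw [mul_comm, pow_mul]
      show (z ^ j).1 ^ 2 = 1
      rcases eq_pm_of_herm h with e | e <;> rw [e] <;> simp
    have h2 : q ^ 2 + 1 ∣ 2 * j := by
      rw [hq, ← pow_mul, mul_comm f 2, ← hK, Nat.card_eq_fintype_card]
      exact hz.trans (orderOf_dvd_of_pow_eq_one h1)
    rcases hqcases with ⟨hp2, hev, hd⟩ | ⟨-, ho, hd⟩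
    · rw [hd, Nat.div_one]; exact hcop hp2 ((hev.pow_of_ne_zero two_ne_zero).add_one) h2
    · rw [hd]; exact div_two_dvd ho.pow.add_one.two_dvd h2
  · refine ⟨inn (dg a), 0, fun j hj _ => ?_⟩
    have h2 : q ^ 2 - 1 ∣ 2 * j := by
      have h := orderOf_dvd_of_pow_eq_one (pow_two_mul_of_dg (inn_pow hj))
      rw [ha, mul_comm, ← Nat.sq_sub_sq, one_pow] at h
      exact h
    rcases hqcases with ⟨hp2, hev, hd⟩ | ⟨-, ho, hd⟩
    · rw [hd, Nat.div_one]
      exact hcop hp2 (Nat.Even.sub_odd (Nat.one_le_pow _ _ (by omega)) (hev.pow_of_ne_zero two_ne_zero) odd_one) h2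
    · rw [hd]; exact div_two_dvd (Nat.Odd.sub_odd ho.pow odd_one).two_dvd h2
  · rcases hqcases with ⟨hp2, hev, -⟩ | ⟨h5, ho, -⟩
    · have hodd : Odd (orderOf (a ^ (q + 1))) := ho1 ▸ Nat.Even.sub_odd (by omega) hev odd_one
      obtain ⟨g, x, h⟩ := inner_char (a ^ (q + 1)) !![0, 1; 0, 0] (fun e => by simpa using congrFun (congrFun e 0) 1)
        (by
          have e : τ ((a ^ (q + 1) : Kˣ) : K) = ((a ^ (q + 1) : Kˣ) : K) := by
            rw [hτu, ← pow_mul, show (q + 1) * q = (q - 1) * (q + 1) + (q + 1) by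
              rw [← Nat.succ_mul, Nat.succ_eq_add_one, Nat.sub_add_cancel (by omega : 1 ≤ q), mul_comm],
              pow_add, ← ha, pow_orderOf_eq_one, one_mul]
          have e' : τ (a : K) ^ (q + 1) = (a : K) ^ (q + 1) := by
            simpa [Units.val_pow_eq_pow_val, map_pow] using e
          rw [ρinn]
          ext i j
          fin_cases i <;> fin_cases j <;> simp [dg, Matrix.mul_apply, Fin.sum_univ_two, map_inv₀, e']) hp2 hodd
      rw [ho1] at h
      exact ⟨g, x, h⟩
    · let μ : Kˣ := a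
      have hb : (a ^ (q + 1) : Kˣ) = μ * μ ^ q := by rw [pow_succ']
      refine outer_char (dg μ) (a ^ (q + 1)) (q - 1) !![0, ((μ * (μ ^ q)⁻¹ : Kˣ) : K); 1, 0] h5
        (fun j hj => ho1 ▸ orderOf_dvd_of_pow_eq_one hj) (ho1 ▸ pow_orderOf_eq_one _)
        (Nat.Odd.sub_odd ho odd_one) (Or.inl ?_) hnm1 (fun e => by simpa using congrFun (congrFun e 1) 0) ?_
      · rw [hb]
        show (dg μ).1 * (dg μ).1.map τ = _
        ext i j
        fin_cases i <;> fin_cases j <;> simp [dg, Matrix.mul_apply, Fin.sum_univ_two, map_inv₀, hτu, mul_comm]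
      · show (dg μ).1 * (!![0, ((μ * (μ ^ q)⁻¹ : Kˣ) : K); 1, 0])ᵀ * ((dg μ).1.map τ)ᵀ = _
        rw [transpose_two]
        ext i j
        fin_cases i <;> fin_cases j <;> simp [dg, Matrix.mul_apply, Fin.sum_univ_two, map_inv₀, hτu]

  · rcases hqcases with ⟨hp2, hev, -⟩ | ⟨h5, ho, -⟩
    · have hodd : Odd (orderOf (a ^ (q - 1))) := ho2 ▸ hev.add_one
      obtain ⟨g, x, h⟩ := inner_char (a ^ (q - 1)) !![1, 0; 0, 0] (fun e => by simpa using congrFun (congrFun e 0) 0)
        (by
          have e : ((a ^ (q - 1) : Kˣ) : K) * τ ((a ^ (q - 1) : Kˣ) : K) = 1 := by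
            rw [hτu, ← Units.val_mul, ← pow_succ', ← ho2, pow_orderOf_eq_one, Units.val_one]
          rw [ρinn]
          ext i j
          fin_cases i <;> fin_cases j <;> simp [dg, Matrix.mul_apply, Fin.sum_univ_two, map_inv₀]
          simpa using e) hp2 hodd
      rw [ho2] at h
      exact ⟨g, x, h⟩
    · have hb : (a ^ (q - 1) : Kˣ) = a⁻¹ * a ^ q := by
        rw [eq_inv_mul_iff_mul_eq, ← pow_succ', Nat.sub_add_cancel (by omega)]
      let A : SL := ⟨!![0, ((a⁻¹ : Kˣ) : K); -(a : K), 0], by simp [Matrix.det_fin_two]⟩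
      refine outer_char A (a ^ (q - 1)) (q + 1) !![((a⁻¹ * (a ^ q)⁻¹ : Kˣ) : K), 0; 0, 1] h5
        (fun j hj => ho2 ▸ orderOf_dvd_of_pow_eq_one hj) (ho2 ▸ pow_orderOf_eq_one _)
        ho.add_one (Or.inr ?_) hnp1 (fun e => by simpa using congrFun (congrFun e 1) 1) ?_
      · rw [hb]
        show A.1 * A.1.map τ = _
        ext i j
        fin_cases i <;> fin_cases j <;> simp [A, dg, Matrix.mul_apply, Fin.sum_univ_two, map_inv₀, hτu, mul_comm]
      · show A.1 * (!![((a⁻¹ * (a ^ q)⁻¹ : Kˣ) : K), 0; 0, 1])ᵀ * (A.1.map τ)ᵀ = _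
        rw [transpose_two]
        ext i j
        fin_cases i <;> fin_cases j <;> simp [A, Matrix.mul_apply, Fin.sum_univ_two, map_inv₀, hτu]

  · rcases hp' with h | h
    · rw [(clog_four (p := p)).2 h]
      subst h
      let uSL : SL := ⟨!![1, 1; 0, 1], by simp [Matrix.det_fin_two]⟩
      refine ⟨inn uSL, !![0, 0; 0, 1], crit_char (p := 2) ρ ?_ (fun j hj => ?_) ?_⟩
      · show (hermU τ uSL).1 ^ 2 = 1
        rw [← Units.val_pow_eq_pow_val, ← map_pow,
          show uSL ^ 2 = 1 from Subtype.ext (by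
            show uSL.1 ^ 2 = 1
            ext i k; fin_cases i <;> fin_cases k <;>
              simp [uSL, pow_two, Matrix.mul_apply, Fin.sum_univ_two, CharTwo.add_self_eq_zero]),
          map_one, Units.val_one]
      · have h1 := inn_pow hj
        rw [← map_pow] at h1
        rcases Nat.even_or_odd' j with ⟨i, rfl | rfl⟩
        · exact dvd_mul_right 2 i
        · exfalso
          have hu2 : uSL ^ 2 = 1 := Subtype.ext (by
            show uSL.1 ^ 2 = 1
            ext i k; fin_cases i <;> fin_cases k <;>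
              simp [uSL, pow_two, Matrix.mul_apply, Fin.sum_univ_two, CharTwo.add_self_eq_zero])
          rw [pow_succ, pow_mul, hu2, one_pow, one_mul] at h1
          rcases eq_pm_of_herm h1 with e | e <;>
            simpa [uSL] using congrFun (congrFun e 0) 1
      · intro e
        rw [gsum, Finset.sum_range_succ, Finset.sum_range_one, LinearMap.add_apply, pow_zero, pow_one,
          Module.End.one_apply, ρinn] at e
        have := congrFun (congrFun e 0) 0
        simp [uSL, Matrix.vecMul, dotProduct, Fin.sum_univ_two] at this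
    · rw [(clog_four (p := p)).1 h]
      refine ⟨1, 1, fun j hj hs => ?_⟩
      have := crit_char (p := p) ρ (g := 1) (N := 1) (by simp) (fun j _ => one_dvd j) (x := (1 : M2))
        (by simp [gsum]) j hj hs
      rwa [mul_one] at this

end CfsgLib.SpecSpFour
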