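import Cfsg.Agent.SpecSpFour.Core
import Cfsg.Agent.SpecSpEight.PSpGraph

/-!
The spectrum of `PSp_4(q)`.
-/

set_option autoImplicit false
set_option linter.style.haveILetI false
set_option maxHeartbeats 400000

namespace CfsgLib.SpecSpFour

open Module CfsgLib.PrimeGraphBC CfsgLib.SpecSpEight
open LinearMap (BilinForm)

universe u v

variable {F : Type u} [Field F] [Fintype F] {p : ℕ} [hp : Fact p.Prime] [CharP F p]

include hp in
theorem dd_cases : (p = 2 ∧ dd p = 1 ∧ Even (Fintype.card F)) ∨ (p ≠ 2 ∧ dd p = 2 ∧ Odd (Fintype.card F)) := by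
  obtain ⟨f, -, hf⟩ := FiniteField.card F p
  by_cases h : p = 2
  · exact Or.inl ⟨h, if_pos h, hf ▸ (h ▸ even_two : Even p).pow_of_ne_zero f.ne_zero⟩
  · exact Or.inr ⟨h, if_neg h, hf ▸ (hp.out.odd_of_ne_two h).pow⟩

include hp in
theorem dd_dvd : dd p ∣ Fintype.card F ^ 2 + 1 ∧ dd p ∣ Fintype.card F ^ 2 - 1 := by
  rcases dd_cases (F := F) (p := p) with ⟨-, e, -⟩ | ⟨-, e, ho⟩
  · simp [e]
  · rw [e]
    exact ⟨ho.pow.add_one.two_dvd, (Nat.Odd.sub_odd ho.pow odd_one).two_dvd⟩

include hp in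
theorem lcm_dvd_num : Nat.lcm (Fintype.card F - 1) (Fintype.card F + 1) ∣ (Fintype.card F ^ 2 - 1) / dd p := by
  set q := Fintype.card F
  have hsq : q ^ 2 - 1 = (q + 1) * (q - 1) := by simpa using Nat.sq_sub_sq q 1
  rw [hsq]
  rcases dd_cases (F := F) (p := p) with ⟨-, e, -⟩ | ⟨-, e, ho⟩
  · rw [e, Nat.div_one, mul_comm]; exact Nat.lcm_dvd_mul _ _
  · have h2 : 2 ∣ Nat.gcd (q - 1) (q + 1) := Nat.dvd_gcd (Nat.Odd.sub_odd ho odd_one).two_dvd ho.add_one.two_dvd
    obtain ⟨c, hc⟩ := h2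
    have h := Nat.gcd_mul_lcm (q - 1) (q + 1)
    rw [hc, mul_assoc] at h
    rw [e, mul_comm (q + 1), ← h, Nat.mul_div_cancel_left _ two_pos]
    exact dvd_mul_left _ _

theorem exists_num_of_ends (S : List (ℕ × Bool)) (hpos : ∀ x ∈ S, 1 ≤ x.1) {a b : ℕ}
    (hsum : torSum S + a + b = 2) (hne : ∀ m, S ≠ [(2, m)]) :
    ∃ T ∈ nums (Fintype.card F) p, (∀ x ∈ S, torN (Fintype.card F) x.1 x.2 ∣ T) ∧
      p ^ Nat.clog p (2 * a) ∣ T ∧ p ^ Nat.clog p (2 * b) ∣ T ∧ (1 ≤ b → S = [] → a = 0 ∨ T = p * (Fintype.card F - 1)) ∧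
      (1 ≤ b → S ≠ [] → Even T ∨ p = 2) := by
  set q := Fintype.card F
  have hclog : ∀ c, c ≤ 1 → p ^ Nat.clog p (2 * c) ∣ p := fun c hc => by
    refine (pow_dvd_pow p (Nat.clog_le_of_le_pow (y := 1) ?_)).trans (pow_one p).dvd
    rw [pow_one]
    exact le_trans (by omega) hp.out.two_le
  match S, hpos, hsum, hne with
  | [], _, hsum, _ =>
    simp only [torSum, List.map_nil, List.sum_nil, zero_add] at hsum
    by_cases h : a = 1
    · exact ⟨p * (q - 1), by simp [nums], by simp, (hclog a h.le).mul_right _, (hclog b (by omega)).mul_right _,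
        fun _ _ => Or.inr rfl, fun _ h => absurd rfl h⟩
    · have hmono : ∀ c, c ≤ 2 → p ^ Nat.clog p (2 * c) ∣ p ^ Nat.clog p 4 := fun c hc =>
        pow_dvd_pow p (Nat.clog_mono_right p (by omega))
      exact ⟨p ^ Nat.clog p 4, by simp [nums], by simp, hmono a (by omega), hmono b (by omega),
        fun _ _ => Or.inl (by omega), fun _ h => absurd rfl h⟩
  | [(h, m)], hpos, hsum, hne =>
    simp only [torSum, List.map_cons, List.map_nil, List.sum_cons, List.sum_nil, add_zero] at hsum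
    obtain rfl : h = 1 := by
      have := hpos _ (List.mem_singleton_self _)
      simp only at this
      rcases Nat.lt_or_ge h 2 with h' | h'
      · omega
      · exact absurd (by rw [show h = 2 by omega]) (hne m)
    refine ⟨p * torN q 1 m, ?_, by simp, (hclog a (by omega)).mul_right _, (hclog b (by omega)).mul_right _,
      fun _ h => absurd h (by simp), fun _ _ => ?_⟩
    · cases m <;> simp [nums, torN]
    · by_cases h2 : p = 2
      · exact Or.inr h2
      · exact Or.inl ((even_torN (F := F) h2 m).mul_left p)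
  | (h, m) :: (h', m') :: S', hpos, hsum, _ =>
    simp only [torSum, List.map_cons, List.sum_cons] at hsum
    have := hpos (h, m) (by simp)
    have := hpos (h', m') (by simp)
    simp only at *
    obtain rfl : S' = [] := by
      rcases S' with _ | ⟨z, S'⟩
      · rfl
      · have := hpos z (by simp)
        simp only [List.map_cons, List.sum_cons] at hsum
        omega
    simp only [List.map_nil, List.sum_nil, add_zero] at hsum
    obtain ⟨rfl, rfl, rfl, rfl⟩ : h = 1 ∧ h' = 1 ∧ a = 0 ∧ b = 0 := by omega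
    refine ⟨(q ^ 2 - 1) / dd p, by simp [nums], fun x hx => ?_, by simp, by simp, fun h => absurd h (by omega),
      fun h => absurd h (by omega)⟩
    refine Nat.dvd_trans ?_ (lcm_dvd_num (F := F))
    simp only [List.mem_cons, List.not_mem_nil, or_false] at hx
    rcases hx with rfl | rfl
    · cases m <;> simp [torN, q, Nat.dvd_lcm_left, Nat.dvd_lcm_right]
    · cases m' <;> simp [torN, q, Nat.dvd_lcm_left, Nat.dvd_lcm_right]

/-- A shape in dimension four bounds the order up to sign. -/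
theorem shape_bound {V : Type v} [AddCommGroup V] [Module F V] {g : Module.End F V} (S : Shape p 2 g)
    (hne : ∀ m, S.P ≠ [(2, m)]) : ∃ T ∈ nums (Fintype.card F) p, g ^ T = 1 ∨ g ^ T = -1 := by
  obtain ⟨T, hT, h1, h2, h3, h4, h5⟩ := exists_num_of_ends (F := F) (p := p) S.P S.pos S.size hne
  have hev2 : 1 ≤ S.b → p = 2 → Even T := fun hb e => by
    subst e
    exact even_iff_two_dvd.2 ((dvd_pow_self 2 (Nat.clog_pos one_lt_two (show 1 < 2 * S.b by omega)).ne').trans h3)
  by_cases hb : 1 ≤ S.b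
  · by_cases hP : S.P = []
    · rcases h4 hb hP with ha | hTp
      · obtain ⟨c, hc⟩ := h3
        refine ⟨T, hT, ?_⟩
        rw [hc, pow_mul, S.neg hP ha]
        rcases Nat.even_or_odd c with h | h
        · exact Or.inl h.neg_one_pow
        · exact Or.inr h.neg_one_pow
      · refine ⟨T, hT, Or.inl (S.rel T h1 h2 h3 fun _ => ?_)⟩
        by_cases h : p = 2
        · exact hev2 hb h
        · rw [hTp]
          rcases dd_cases (F := F) (p := p) with ⟨e, -, -⟩ | ⟨-, -, ho⟩
          · exact absurd e h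
          · exact (Nat.Odd.sub_odd ho odd_one).mul_left p
    · exact ⟨T, hT, Or.inl (S.rel T h1 h2 h3 fun _ => (h5 hb hP).elim id (hev2 hb))⟩
  · exact ⟨T, hT, Or.inl (S.rel T h1 h2 h3 fun h => absurd h hb)⟩

/-- Up to sign the order divides one of the numbers. -/
theorem isometry_bound {V : Type v} [AddCommGroup V] [Module F V] [FiniteDimensional F V] (B : BilinForm F V)
    (hA : B.IsAlt) (hB : B.Nondegenerate) (hV : finrank F V = 4) (g : Module.End F V)
    (hg : ∀ u w, B (g u) (g w) = B u w) : ∃ T ∈ nums (Fintype.card F) p, g ^ T = 1 ∨ g ^ T = -1 := by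
  classical
  set q := Fintype.card F
  obtain ⟨S⟩ := normal_form (p := p) 2 B hA hB (by omega) g hg
  by_cases hne : ∀ m, S.P ≠ [(2, m)]
  · exact shape_bound S hne
  push Not at hne
  obtain ⟨m, hm⟩ := hne
  have hsize := S.size
  rw [hm] at hsize
  simp only [torSum, List.map_cons, List.map_nil, List.sum_cons, List.sum_nil] at hsize
  have hN : g ^ torN q 2 m = 1 := by
    refine S.rel _ ?_ ?_ ?_ (fun h => absurd h (by omega))
    · rw [hm]; simp [q]
    · rw [show S.a = 0 by omega]; simp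
    · rw [show S.b = 0 by omega]; simp
  rcases dd_cases (F := F) (p := p) with ⟨-, e, -⟩ | ⟨h2, e, ho⟩
  · refine ⟨torN q 2 m, ?_, Or.inl hN⟩
    cases m <;> simp [nums, torN, e, q]
  -- odd characteristic: split off the involution
  obtain ⟨M, hM⟩ : ∃ M, torN q 2 m = 2 * M := (even_torN (F := F) h2 m).two_dvd
  have hMmem : M ∈ nums q p := by
    cases m <;> simp only [torN, Bool.false_eq_true, if_false, if_true] at hM <;> simp [nums, e, hM]
  haveI : Nontrivial V := Module.nontrivial_of_finrank_pos (R := F) (by omega)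
  set i := g ^ M with hidef
  have hii : i * i = 1 := by rw [← pow_add, ← two_mul, ← hM, hN]
  by_cases hi : i = 1 ∨ i = -1
  · exact ⟨M, hMmem, hi⟩
  have h2F : (2 : F) ≠ 0 := by
    intro h
    exact h2 ((Nat.prime_dvd_prime_iff_eq hp.out Nat.prime_two).1 ((CharP.cast_eq_zero_iff F p 2).1 (by exact_mod_cast h)))
  have hi2 : ∀ u w, B (i u) (i w) = B u w := by
    rw [hidef]
    clear_value i
    clear hidef hii hi hM hMmem
    induction M with
    | zero => intro u w; simp
    | succ M ih => intro u w; rw [pow_succ, Module.End.mul_apply, Module.End.mul_apply, ih, hg]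
  -- eigenspaces
  let E : F → Submodule F V := fun c => LinearMap.ker (i - c • (1 : Module.End F V))
  have memE : ∀ c v, v ∈ E c ↔ i v = c • v := fun c v => by
    rw [LinearMap.mem_ker, LinearMap.sub_apply, LinearMap.smul_apply, Module.End.one_apply, sub_eq_zero]
  have hiv : ∀ v, i (i v) = v := fun v => by rw [← Module.End.mul_apply, hii, Module.End.one_apply]
  have hsplit : IsCompl (E 1) (E (-1)) := by
    refine ⟨Submodule.disjoint_def.2 fun v h h' => ?_, codisjoint_iff.2 (eq_top_iff.2 fun v _ => ?_)⟩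
    · rw [memE, one_smul] at h
      rw [memE, h, neg_one_smul] at h'
      exact (smul_eq_zero.1 (show (2 : F) • v = 0 by rw [two_smul]; nth_rewrite 1 [h']; exact neg_add_cancel v)).resolve_left h2F
    · refine Submodule.mem_sup.2 ⟨(2 : F)⁻¹ • (v + i v), (memE _ _).2 ?_, (2 : F)⁻¹ • (v - i v), (memE _ _).2 ?_, ?_⟩
      · rw [map_smul, map_add, hiv, one_smul, add_comm]
      · rw [map_smul, map_sub, hiv, neg_one_smul, ← smul_neg, neg_sub]
      · rw [← smul_add, show v + i v + (v - i v) = (2 : F) • v by rw [two_smul]; abel, smul_smul,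
          inv_mul_cancel₀ h2F, one_smul]
  have horth : ∀ x ∈ E 1, ∀ y ∈ E (-1), B x y = 0 ∧ B y x = 0 := fun x hx y hy => by
    rw [memE, one_smul] at hx
    rw [memE, neg_one_smul] at hy
    have h := hi2 x y
    rw [hx, hy, map_neg] at h
    have h0 : B x y = 0 := (mul_eq_zero.1 (show (2 : F) * B x y = 0 by linear_combination -h)).resolve_left h2F
    exact ⟨h0, by rw [← LinearMap.BilinForm.IsAlt.neg_eq hA, h0, neg_zero]⟩
  have hnd1 : (B.restrict (E 1)).Nondegenerate :=
    LinearMap.BilinForm.Nondegenerate.ofSeparatingLeft fun x hx => Subtype.ext (hB.1 _ fun w => by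
      obtain ⟨a, ha, k, hk, rfl⟩ := Submodule.mem_sup.1 (show w ∈ E 1 ⊔ E (-1) by rw [hsplit.sup_eq_top]; trivial)
      rw [map_add, (horth x x.2 k hk).1, add_zero]
      exact hx ⟨a, ha⟩)
  have hnd2 : (B.restrict (E (-1))).Nondegenerate :=
    LinearMap.BilinForm.Nondegenerate.ofSeparatingLeft fun x hx => Subtype.ext (hB.1 _ fun w => by
      obtain ⟨a, ha, k, hk, rfl⟩ := Submodule.mem_sup.1 (show w ∈ E 1 ⊔ E (-1) by rw [hsplit.sup_eq_top]; trivial)
      rw [map_add, (horth a ha x x.2).2, zero_add]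
      exact hx ⟨k, hk⟩)
  have hgm : ∀ c, ∀ v ∈ E c, g v ∈ E c := fun c v hv => by
    rw [memE] at hv ⊢
    have hc : Commute i g := (Commute.refl g).pow_left M
    rw [← Module.End.mul_apply, hc.eq, Module.End.mul_apply, hv, map_smul]
  obtain ⟨n₁, hn₁⟩ := even_finrank_of_alt (B := B.restrict (E 1)) (fun x => hA x) hnd1
  obtain ⟨n₂, hn₂⟩ := even_finrank_of_alt (B := B.restrict (E (-1))) (fun x => hA x) hnd2
  have hsum := Submodule.finrank_add_eq_of_isCompl hsplit
  have htop : ∀ c, E c = ⊤ → i = c • (1 : Module.End F V) := fun c h => LinearMap.ext fun v => by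
    rw [LinearMap.smul_apply, Module.End.one_apply, ← memE, h]; trivial
  have h1 : n₁ ≠ 0 := fun h0 => hi (Or.inr (by
    rw [htop (-1) (Submodule.eq_top_of_finrank_eq (by omega)), neg_one_smul]))
  have h2' : n₂ ≠ 0 := fun h0 => hi (Or.inl (by
    rw [htop 1 (Submodule.eq_top_of_finrank_eq (by omega)), one_smul]))
  obtain rfl : n₁ = 1 := by omega
  obtain rfl : n₂ = 1 := by omega
  obtain ⟨S₁⟩ := normal_form (p := p) 1 (B.restrict (E 1)) (fun x => hA x) hnd1 hn₁ (g.restrict (hgm 1))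
    fun u w => hg u w
  obtain ⟨S₂⟩ := normal_form (p := p) 1 (B.restrict (E (-1))) (fun x => hA x) hnd2 hn₂ (g.restrict (hgm (-1)))
    fun u w => hg u w
  -- a shape for `g` that is not a single big torus
  have hmono : ∀ {M' x y : ℕ}, x ≤ y → p ^ Nat.clog p (2 * y) ∣ M' → p ^ Nat.clog p (2 * x) ∣ M' := fun hxy h =>
    (pow_dvd_pow p (Nat.clog_mono_right p (Nat.mul_le_mul_left 2 hxy))).trans h
  have hglue : ∀ (M' : ℕ) (s : F), (g.restrict (hgm 1)) ^ M' = s • (1 : Module.End F (E 1)) →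
      (g.restrict (hgm (-1))) ^ M' = s • (1 : Module.End F (E (-1))) → g ^ M' = s • (1 : Module.End F V) := fun M' s e1 e2 => by
    refine LinearMap.ext fun w => ?_
    obtain ⟨a, ha, k, hk, rfl⟩ := Submodule.mem_sup.1 (show w ∈ E 1 ⊔ E (-1) by rw [hsplit.sup_eq_top]; trivial)
    have ea := congrArg Subtype.val (LinearMap.congr_fun e1 ⟨a, ha⟩)
    have ek := congrArg Subtype.val (LinearMap.congr_fun e2 ⟨k, hk⟩)
    rw [Module.End.pow_restrict] at ea ek
    rw [map_add, map_add]
    exact congrArg₂ (· + ·) ea ek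
  have hup : ∀ {U : Submodule F V} (hU : ∀ v ∈ U, g v ∈ U) (x y : ℕ), x ≤ y →
      (g.restrict hU) ^ p ^ Nat.clog p (2 * x) = -1 → (g.restrict hU) ^ p ^ Nat.clog p (2 * y) = -1 :=
    fun {U} hU x y hxy h => by
      obtain ⟨c, hc⟩ := Nat.exists_eq_add_of_le (Nat.clog_mono_right p (Nat.mul_le_mul_left 2 hxy))
      rw [hc, pow_add, pow_mul, h]
      exact ((hp.out.odd_of_ne_two h2).pow (n := c)).neg_one_pow (α := Module.End F U)
  let S' : Shape p 2 g :=
    { P := S₁.P ++ S₂.P
      a := S₁.a + S₂.a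
      b := S₁.b + S₂.b
      pos := fun x hx => (List.mem_append.1 hx).elim (S₁.pos x) (S₂.pos x)
      size := by rw [torSum_append]; have := S₁.size; have := S₂.size; omega
      rel := fun M' hP ha hb hev => by
        rw [← one_smul F (1 : Module.End F V)]
        refine hglue M' 1 ?_ ?_ <;> rw [one_smul]
        · exact S₁.rel M' (fun x hx => hP x (List.mem_append_left _ hx)) (hmono (Nat.le_add_right _ _) ha)
            (hmono (Nat.le_add_right _ _) hb) (fun h => hev (by omega))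
        · exact S₂.rel M' (fun x hx => hP x (List.mem_append_right _ hx)) (hmono (Nat.le_add_left _ _) ha)
            (hmono (Nat.le_add_left _ _) hb) (fun h => hev (by omega))
      neg := fun hP ha => by
        obtain ⟨hP1, hP2⟩ := List.append_eq_nil_iff.1 hP
        rw [← neg_one_smul F (1 : Module.End F V)]
        refine hglue _ (-1) ?_ ?_
        · exact (hup _ _ _ (Nat.le_add_right _ _) (S₁.neg hP1 (by omega))).trans (neg_one_smul F _).symm
        · exact (hup _ _ _ (Nat.le_add_left _ _) (S₂.neg hP2 (by omega))).trans (neg_one_smul F _).symm }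
  refine shape_bound S' fun m' e' => ?_
  have hmem : ((2 : ℕ), m') ∈ S₁.P ++ S₂.P := by
    show _ ∈ S'.P
    rw [e']; exact List.mem_singleton_self _
  have := S₁.size; have := S₂.size
  rcases List.mem_append.1 hmem with h | h <;> · have := fst_le_torSum h; simp only at this; omega

local notation "Sp" m => Matrix.symplecticGroup (Fin m) F

theorem exists_pair_char : ∀ b : Bool, ∃ y : Cfsg.PSp 2 F, p * torN (Fintype.card F) 1 b ∣ orderOf y := by
  intro b
  classical
  obtain ⟨z, hz⟩ := exists_sp_torN (F := F) 1 le_rfl b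
  obtain ⟨u, hu⟩ := exists_sp_order_p (F := F) (p := p) (k := 1) le_rfl
  let ψ : ((Sp 1) × (Sp 1)) →* Sp 2 :=
    (CfsgLib.Symp.congrSp (R := F) (finSumFinEquiv : Fin 1 ⊕ Fin 1 ≃ Fin 2)).toMonoidHom.comp
      CfsgLib.Symp.blockHom
  have hψ : Function.Injective ψ := fun a c h =>
    CfsgLib.Symp.blockHom_injective ((CfsgLib.Symp.congrSp _).injective h)
  have hcop : (torN (Fintype.card F) 1 b).Coprime p := torN_coprime le_rfl b
  refine ⟨QuotientGroup.mk (ψ (z, u)), ?_⟩
  set j := orderOf (QuotientGroup.mk (ψ (z, u)) : Cfsg.PSp 2 F)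
  have hj : ψ (z, u) ^ j ∈ Subgroup.center (Sp 2) := (QuotientGroup.eq_one_iff _).1 (by
    rw [QuotientGroup.mk_pow]; exact pow_orderOf_eq_one _)
  let ng : Sp 1 := ⟨-1, SymplecticGroup.neg_mem (one_mem _)⟩
  have hcases : (z ^ j = 1 ∧ u ^ j = 1) ∨ (z ^ j = ng ∧ u ^ j = ng) := by
    rw [← map_pow, Prod.pow_mk] at hj
    rcases CfsgLib.Symp.mem_center_iff.1 hj with e | e
    · exact Or.inl (Prod.ext_iff.1 (hψ ((Subtype.ext e).trans (map_one ψ).symm)))
    · refine Or.inr (Prod.ext_iff.1 (hψ (a₂ := (ng, ng)) (Subtype.ext (e.trans ?_))))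
      show (-1 : Matrix (Fin 2 ⊕ Fin 2) (Fin 2 ⊕ Fin 2) F) =
        Matrix.reindex _ _ (CfsgLib.Symp.blockMat (-1) (-1))
      have hb : CfsgLib.Symp.blockMat (R := F) (-1 : Matrix (Fin 1 ⊕ Fin 1) (Fin 1 ⊕ Fin 1) F)
          (-1 : Matrix (Fin 1 ⊕ Fin 1) (Fin 1 ⊕ Fin 1) F) = -1 := by
        rw [CfsgLib.Symp.blockMat, show Matrix.fromBlocks (-1 : Matrix (Fin 1 ⊕ Fin 1) (Fin 1 ⊕ Fin 1) F) 0 0
            (-1 : Matrix (Fin 1 ⊕ Fin 1) (Fin 1 ⊕ Fin 1) F) = -1 by
          simp [← Matrix.fromBlocks_one, Matrix.fromBlocks_neg], Matrix.submatrix_neg]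
        simp
      rw [hb, Matrix.reindex_apply, Matrix.submatrix_neg]
      simp
  have hu2 : u ^ j = 1 := by
    rcases hcases with h | ⟨-, h⟩
    · exact h.2
    · have hsq : ng * ng = 1 := Subtype.ext (by simp [ng])
      by_cases h2 : p = 2
      · subst h2
        rw [h]
        refine Subtype.ext ?_
        show (-1 : Matrix (Fin 1 ⊕ Fin 1) (Fin 1 ⊕ Fin 1) F) = 1
        ext a c; simp [CharTwo.neg_eq]
      · have h4 : ng ^ p = ng := by
          obtain ⟨w, hw⟩ := hp.out.odd_of_ne_two h2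
          rw [hw, pow_succ, pow_mul, pow_two, hsq, one_pow, one_mul]
        rw [h, ← h4, ← h, ← pow_mul, mul_comm, pow_mul, ← hu, pow_orderOf_eq_one, one_pow]
  have hz1 : z ^ j = 1 := by
    rcases hcases with h | ⟨h, h'⟩
    · exact h.1
    · rw [h, ← h', hu2]
  refine hcop.symm.mul_dvd_of_dvd_of_dvd (hu ▸ orderOf_dvd_of_pow_eq_one hu2)
    (hz.trans (orderOf_dvd_of_pow_eq_one hz1))

/-- The spectrum of `PSp_4(q)`. -/
theorem range_psp : Set.range (orderOf : Cfsg.PSp 2 F → ℕ) = spec (Fintype.card F) p := by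
  classical
  refine range_eq_spec (fun y => ?_) fun T hT => ?_
  · obtain ⟨A, rfl⟩ := QuotientGroup.mk_surjective y
    obtain ⟨T, hT, h⟩ := isometry_bound (p := p) (stdB (F := F) 2) (stdB_alt 2) (stdB_nondeg 2) (by simp)
      (fromSp 2 A).1.toLinearMap (fromSp 2 A).2
    refine ⟨T, hT, (QuotientGroup.mk_pow _ A _).symm.trans ((QuotientGroup.eq_one_iff _).2
      (CfsgLib.Symp.mem_center_iff.2 ?_))⟩
    have e : Matrix.toLinAlgEquiv' (A ^ T).1 = ((fromSp 2 A).1.toLinearMap : Module.End F _) ^ T := by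
      rw [SubmonoidClass.coe_pow, map_pow]; rfl
    exact h.imp (fun h' => (Matrix.toLinAlgEquiv' :
        Matrix (Fin 2 ⊕ Fin 2) (Fin 2 ⊕ Fin 2) F ≃ₐ[F] _).injective ((e.trans h').trans (map_one _).symm))
      fun h' => (Matrix.toLinAlgEquiv' : Matrix (Fin 2 ⊕ Fin 2) (Fin 2 ⊕ Fin 2) F ≃ₐ[F] _).injective
        ((e.trans h').trans (by rw [map_neg, map_one]))
  · have htor : ∀ b, ∀ T : ℕ, dd p * T = torN (Fintype.card F) 2 b → ∃ y : Cfsg.PSp 2 F, T ∣ orderOf y := by
      intro b T e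
      obtain ⟨z, hz⟩ := exists_sp_torN (F := F) 2 (by omega) b
      refine ⟨QuotientGroup.mk z, ?_⟩
      rcases dd_cases (F := F) (p := p) with ⟨h2, h1, -⟩ | ⟨-, h1, -⟩
      · subst h2
        rw [h1, one_mul] at e
        refine (e ▸ hz).trans (orderOf_dvd_of_pow_eq_one (Subgroup.mem_bot.1 (center_sp_eq_bot (F := F) 2 ▸ ?_)))
        rw [← QuotientGroup.eq_one_iff, QuotientGroup.mk_pow, pow_orderOf_eq_one]
      · rw [h1] at e
        exact Nat.dvd_of_mul_dvd_mul_left two_pos
          ((e ▸ hz).trans (CfsgLib.SpecAbsorb.dvd_two_mul_orderOf_mk z))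
    have hd := dd_dvd (F := F) (p := p)
    simp only [nums, List.mem_cons, List.not_mem_nil, or_false] at hT
    rcases hT with rfl | rfl | rfl | rfl | rfl
    · exact htor true _ (by rw [Nat.mul_div_cancel' hd.1]; simp [torN])
    · exact htor false _ (by rw [Nat.mul_div_cancel' hd.2]; simp [torN])
    · obtain ⟨y, hy⟩ := exists_pair_char (F := F) (p := p) false
      exact ⟨y, by simpa [torN] using hy⟩
    · obtain ⟨y, hy⟩ := exists_pair_char (F := F) (p := p) true
      exact ⟨y, by simpa [torN] using hy⟩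
    · obtain ⟨u, hu⟩ := CfsgLib.SpecAbsorb.exists_sp_unip (F := F) (p := p) (k := 2) (by omega)
        (Nat.le_pow_clog hp.out.one_lt _) (Nat.pow_pred_clog_lt_self hp.out.one_lt (by omega))
      obtain ⟨y, hy⟩ := exists_psp_order (p := p) (A := u) (by
        rcases hp.out.eq_two_or_odd' with h2 | h2
        · exact Or.inr h2
        · exact Or.inl h2.pow) hu
      exact ⟨y, hy.symm.dvd⟩

end CfsgLib.SpecSpFour
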