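import Cfsg.Agent.SpecSpFour.Core
import Cfsg.Agent.SpecSpEight.PSpGraph

/-!
Facts on two-by-two matrices of determinant one over a finite field.
-/

set_option autoImplicit false
set_option linter.style.haveILetI false

namespace CfsgLib.SpecSpFour

open Matrix

universe u

variable {K : Type u} [Field K]

local notation "M2" => Matrix (Fin 2) (Fin 2) K

theorem ch {A : M2} (hA : A.det = 1) : A * A + 1 = A.trace • A := by
  rw [Matrix.det_fin_two] at hA
  ext i j
  fin_cases i <;> fin_cases j <;>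
    simp [Matrix.mul_apply, Fin.sum_univ_two, Matrix.trace_fin_two] <;>
    first
      | ring1
      | linear_combination -hA

theorem not_scalar {A : M2} (hA : A.det = 1) (h4 : A.trace ^ 2 ≠ 4) (c : K) : A ≠ c • 1 := fun e => h4 (by
  rw [e] at hA ⊢
  simp [Matrix.det_fin_two] at hA
  rcases hA with rfl | rfl <;> simp [Matrix.trace_fin_two] <;> norm_num)

theorem exists_coeff {A : M2} (hA : A.det = 1) : ∀ n : ℕ, ∃ α β : K, A ^ n = α • (1 : M2) + β • A
  | 0 => ⟨1, 0, by simp⟩
  | n + 1 => by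
    obtain ⟨α, β, h⟩ := exists_coeff hA n
    refine ⟨-β, α + β * A.trace, ?_⟩
    rw [pow_succ, h, add_mul, smul_one_mul, Matrix.smul_mul, eq_sub_of_add_eq (ch hA), smul_sub, smul_smul]
    module

theorem eq_zero_of_sq {A : M2} (hA : A.det = 1) (h4 : A.trace ^ 2 ≠ 4) {α β : K}
    (h : (α • (1 : M2) + β • A) * (α • 1 + β • A) = 0) : α • (1 : M2) + β • A = 0 := by
  have e : (α • (1 : M2) + β • A) * (α • 1 + β • A) =
      (α * α - β * β) • (1 : M2) + (2 * α * β + β * β * A.trace) • A := by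
    rw [add_mul, mul_add, mul_add, smul_one_mul, smul_one_mul, Matrix.smul_mul, Matrix.smul_mul, Matrix.mul_smul,
      Matrix.mul_smul, mul_one, eq_sub_of_add_eq (ch hA)]
    module
  rw [e] at h
  have hc : 2 * α * β + β * β * A.trace = 0 := by
    by_contra hne
    refine not_scalar hA h4 (-(α * α - β * β) / (2 * α * β + β * β * A.trace)) ?_
    rw [add_comm] at h
    have h' := congrArg (fun X : M2 => (2 * α * β + β * β * A.trace)⁻¹ • X) (eq_neg_of_add_eq_zero_left h)
    simp only [smul_smul, inv_mul_cancel₀ hne, one_smul, smul_neg] at h'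
    refine h'.trans ?_
    rw [div_eq_inv_mul, mul_neg, neg_smul]
  rw [hc, zero_smul, add_zero] at h
  have hab : α * α - β * β = 0 := (smul_eq_zero.1 h).resolve_right one_ne_zero
  by_cases hb : β = 0
  · subst hb
    rw [mul_zero, sub_zero] at hab
    rw [mul_self_eq_zero.1 hab]; simp
  · exfalso
    have h1 : 2 * α + β * A.trace = 0 := (mul_eq_zero.1 (show β * (2 * α + β * A.trace) = 0 by
      linear_combination hc)).resolve_left hb
    exact h4 (mul_left_cancel₀ (mul_ne_zero hb hb) (by linear_combination (β * A.trace - 2 * α) * h1 + 4 * hab))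

variable {p : ℕ} [hp : Fact p.Prime] [CharP K p]

include hp in
theorem pow_frob_cases {A : M2} (hA : A.det = 1) (h4 : A.trace ^ 2 ≠ 4) {n : ℕ}
    (ht : A.trace ^ p ^ n = A.trace) : A ^ (p ^ n - 1) = 1 ∨ A ^ (p ^ n + 1) = 1 := by
  set s := p ^ n
  set t := A.trace
  have hs : 1 ≤ s := Nat.one_le_pow _ _ hp.out.pos
  obtain ⟨r, hr⟩ : ∃ r, s = r + 1 := ⟨s - 1, by omega⟩
  rw [hr, Nat.add_sub_cancel]
  have hu : A ^ s * A ^ s + 1 = t • A ^ s := by
    have h := congrArg (fun X : M2 => X ^ p ^ n) (ch hA)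
    rw [add_pow_char_pow_of_commute p _ (Commute.one_right _), one_pow, smul_pow, ht,
      (Commute.refl A).mul_pow] at h
    exact h
  let B : M2 := t • 1 - A
  have hAB : A * B = 1 := by
    rw [show A * B = t • A - A * A by rw [mul_sub, Matrix.mul_smul, mul_one], ← ch hA]
    abel
  have hBA : B * A = 1 := by
    rw [show B * A = t • A - A * A by rw [sub_mul, smul_one_mul], ← ch hA]
    abel
  have e1 : A ^ s - A = A * (A ^ r - 1) := by rw [hr, pow_succ', mul_sub, mul_one]
  have e2 : A ^ s - B = B * (A ^ (s + 1) - 1) := by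
    rw [mul_sub, mul_one, pow_succ', ← mul_assoc, hBA, one_mul]
  have hXY : (A ^ r - 1) * (A ^ (r + 1 + 1) - 1) = 0 := by
    have h0 : (A ^ s - A) * (A ^ s - B) = 0 := by
      have hc : A ^ s * B + A * A ^ s = t • A ^ s := by
        rw [← pow_succ', pow_succ, ← mul_add, show B + A = t • 1 by simp [B], Matrix.mul_smul, mul_one]
      calc (A ^ s - A) * (A ^ s - B)
          = A ^ s * A ^ s - (A ^ s * B + A * A ^ s) + A * B := by noncomm_ring
        _ = _ := by rw [hc, hAB, ← hu]; abel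
    rw [e1, e2] at h0
    have hcomm : Commute (A ^ r - 1) B := by
      have : Commute A B := hAB.trans hBA.symm
      exact (this.pow_left r).sub_left (Commute.one_left B)
    rw [mul_assoc, ← mul_assoc (A ^ r - 1), hcomm.eq, ← mul_assoc, ← mul_assoc, hAB, one_mul, hr] at h0
    exact h0
  by_cases hX : (A ^ r - 1).det = 0
  · left
    have hdet : (A ^ r).det = 1 := by rw [Matrix.det_pow, hA, one_pow]
    have htr : (A ^ r).trace = 2 := by
      rw [Matrix.det_fin_two] at hX hdet
      simp [Matrix.trace_fin_two] at hX ⊢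
      linear_combination hdet - hX
    have hN : (A ^ r - 1) * (A ^ r - 1) = 0 := by
      have := ch hdet
      rw [htr, two_smul] at this
      calc (A ^ r - 1) * (A ^ r - 1) = A ^ r * A ^ r + 1 - (A ^ r + A ^ r) := by noncomm_ring
        _ = 0 := by rw [this, sub_self]
    obtain ⟨α, β, hαβ⟩ := exists_coeff hA r
    have e : A ^ r - 1 = (α - 1) • (1 : M2) + β • A := by rw [hαβ]; module
    rw [e] at hN
    exact sub_eq_zero.1 (e.trans (eq_zero_of_sq hA h4 hN))
  · right
    refine sub_eq_zero.1 (((Matrix.isUnit_iff_isUnit_det _).2 (isUnit_iff_ne_zero.2 hX)).mul_right_eq_zero.1 hXY)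

include hp in
theorem pow_unip {A : M2} (hA : A.det = 1) (h4 : A.trace ^ 2 = 4) :
    ∃ ε : K, (ε = 1 ∨ ε = -1) ∧ ∃ N : M2, N * N = 0 ∧ A = ε • (1 + N) ∧ A ^ p = ε ^ p • 1 := by
  obtain ⟨ε, hε, ht⟩ : ∃ ε : K, (ε = 1 ∨ ε = -1) ∧ A.trace = 2 * ε := by
    rcases mul_eq_zero.1 (show (A.trace - 2) * (A.trace + 2) = 0 by linear_combination h4) with h | h
    · exact ⟨1, Or.inl rfl, by linear_combination h⟩
    · exact ⟨-1, Or.inr rfl, by linear_combination h⟩
  have hε2 : ε * ε = 1 := by rcases hε with rfl | rfl <;> ring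
  have hAA : A * A = (2 * ε) • A - 1 := by rw [← ht]; exact eq_sub_of_add_eq (ch hA)
  have hN : (ε • A - 1) * (ε • A - 1) = 0 := by
    rw [sub_mul, mul_sub, mul_sub, smul_mul_smul_comm, hε2, one_smul, hAA, mul_one, one_mul, one_mul]
    module
  have hA' : A = ε • (1 + (ε • A - 1)) := by rw [add_sub_cancel, smul_smul, hε2, one_smul]
  refine ⟨ε, hε, ε • A - 1, hN, hA', ?_⟩
  rw [hA', smul_pow, add_pow_char_of_commute p (Commute.one_left _), one_pow]
  obtain ⟨k, hk⟩ := Nat.exists_eq_add_of_le hp.out.two_le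
  rw [show (ε • A - 1) ^ p = 0 by rw [hk, pow_add, pow_two, hN, zero_mul], add_zero]

theorem sq_one {M : M2} (hM : M.det = 1) (h2 : (2 : K) ≠ 0) (h : M * M = 1) : M = 1 ∨ M = -1 := by
  have h1 := ch hM
  rw [h, ← two_smul K (1 : M2)] at h1
  have ht : M.trace ≠ 0 := fun e => by
    rw [e, zero_smul] at h1
    exact h2 ((smul_eq_zero.1 h1).resolve_right one_ne_zero)
  have hMs : M = (2 / M.trace) • (1 : M2) := by
    rw [div_eq_inv_mul, ← smul_smul, h1, smul_smul, inv_mul_cancel₀ ht, one_smul]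
  rw [hMs] at hM
  simp [Matrix.det_fin_two] at hM
  rcases hM with e | e
  · exact Or.inl (by rw [hMs, e, one_smul])
  · exact Or.inr (by rw [hMs, e, neg_one_smul])

theorem pow_half {A : M2} (hA : A.det = 1) (h2 : (2 : K) ≠ 0) {N : ℕ} (h : A ^ (2 * N) = 1) :
    A ^ N = 1 ∨ A ^ N = -1 :=
  sq_one (by rw [Matrix.det_pow, hA, one_pow]) h2 (by rw [← pow_add, ← two_mul, h])

omit hp in
theorem two_ne_zero_of_char (h : p ≠ 2) [Fact p.Prime] : (2 : K) ≠ 0 := fun e =>
  h ((Nat.prime_dvd_prime_iff_eq Fact.out Nat.prime_two).1 ((CharP.cast_eq_zero_iff K p 2).1 (by exact_mod_cast e)))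

include hp in
/-- A semisimple element has order dividing `Q ± 1`; up to sign half of that in odd characteristic. -/
theorem pow_num {A : M2} (hA : A.det = 1) (h4 : A.trace ^ 2 ≠ 4) {n : ℕ} (hn : 1 ≤ n)
    (ht : A.trace ^ p ^ n = A.trace) :
    A ^ ((p ^ n - 1) / dd p) = 1 ∨ A ^ ((p ^ n - 1) / dd p) = -1 ∨
      A ^ ((p ^ n + 1) / dd p) = 1 ∨ A ^ ((p ^ n + 1) / dd p) = -1 := by
  have h := pow_frob_cases hA h4 ht
  by_cases h2 : p = 2
  · rw [show dd p = 1 from if_pos h2, Nat.div_one, Nat.div_one]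
    exact h.imp_right fun e => Or.inr (Or.inl e)
  · rw [show dd p = 2 from if_neg h2]
    have hodd : Odd (p ^ n) := (hp.out.odd_of_ne_two h2).pow
    rcases h with h | h
    · rw [← Nat.mul_div_cancel' (Nat.Odd.sub_odd hodd odd_one).two_dvd] at h
      exact (pow_half hA (two_ne_zero_of_char h2) h).imp_right Or.inl
    · rw [← Nat.mul_div_cancel' hodd.add_one.two_dvd] at h
      exact Or.inr (Or.inr (pow_half hA (two_ne_zero_of_char h2) h))

/-- A symplectic two-by-two matrix has determinant one. -/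
theorem det_reindex (A : Matrix.symplecticGroup (Fin 1) K) :
    ((A : Matrix (Fin 1 ⊕ Fin 1) (Fin 1 ⊕ Fin 1) K).reindex finSumFinEquiv finSumFinEquiv).det = 1 := by
  have h := congrFun (congrFun (SymplecticGroup.mem_iff.1 A.2) (Sum.inr 0)) (Sum.inl 0)
  rw [Matrix.det_fin_two]
  simp only [Matrix.reindex_apply, Matrix.submatrix_apply,
    show (finSumFinEquiv : Fin 1 ⊕ Fin 1 ≃ Fin 2).symm 0 = Sum.inl 0 from rfl,
    show (finSumFinEquiv : Fin 1 ⊕ Fin 1 ≃ Fin 2).symm 1 = Sum.inr 0 from rfl]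
  simp [Matrix.J, Matrix.mul_apply, Fintype.sum_sum_type] at h ⊢
  linear_combination h

include hp in
theorem exists_minus_sl [Fintype K] :
    ∃ z : Matrix.SpecialLinearGroup (Fin 2) K, Fintype.card K + 1 ∣ orderOf z := by
  obtain ⟨w, hw⟩ := CfsgLib.SpecSpEight.exists_sp_torN (F := K) 1 le_rfl true
  let e : Matrix (Fin 1 ⊕ Fin 1) (Fin 1 ⊕ Fin 1) K ≃ₐ[K] M2 :=
    Matrix.reindexAlgEquiv K K (finSumFinEquiv : Fin 1 ⊕ Fin 1 ≃ Fin 2)
  let f : Matrix.symplecticGroup (Fin 1) K →* Matrix.SpecialLinearGroup (Fin 2) K :=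
    { toFun := fun A => ⟨e A.1, det_reindex A⟩
      map_one' := Subtype.ext (map_one e)
      map_mul' := fun A B => Subtype.ext (map_mul e A.1 B.1) }
  have hf : Function.Injective f := fun A B h => Subtype.ext (e.injective (congrArg Subtype.val h))
  refine ⟨f w, ?_⟩
  rw [orderOf_injective f hf]
  simpa [CfsgLib.SpecSpEight.torN] using hw

end CfsgLib.SpecSpFour
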